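import Groth.Agent.CurvSt.K902.SlicePts
import Groth.Agent.AlgSp.K616.DimInv
import Groth.Prelude.Def_StCurv2

/-!
# Change of base and properties of morphisms

For `g : S ⟶ S'` and a morphism `f` of fppf sheaves over `S`: `f` is (quasi-)separated, quasi-compact, universally closed,
proper, of finite presentation, has `P` etale locally (`LocP`), is of relative dimension at most `d`, is representable iff
`j_! f` is.
-/

set_option autoImplicit false

universe u

open CategoryTheory CategoryTheory.Limits AlgebraicGeometry Opposite AlgSp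

namespace K902.Slice

open K595 K595.ChBase

variable {S S' : Scheme.{u}} {g : S ⟶ S'}

section RepWith

theorem repWith_cancel_left {P : MorphismProperty Scheme.{u}} {S : Scheme.{u}} {F G H : Sp S} (e : F ⟶ G) [IsIso e]
    (f : G ⟶ H) : RepWith P (e ≫ f) ↔ RepWith P f :=
  (RepWith (S := S) P).cancel_left_of_respectsIso e f

theorem repWith_cancel_right {P : MorphismProperty Scheme.{u}} {S : Scheme.{u}} {F G H : Sp S} (f : F ⟶ G)
    (e : G ⟶ H) [IsIso e] : RepWith P (f ≫ e) ↔ RepWith P f :=
  (RepWith (S := S) P).cancel_right_of_respectsIso f e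

variable {P : MorphismProperty Scheme.{u}} [P.RespectsIso]

/-- The chart `h_U ⟶ j_! F` attached to `h_U ⟶ F`. -/
theorem repWith_chart_iff {F : Sp S} {T : Over S} (a : (yon S).obj T ⟶ F) :
    RepWith P (yonHom (g := g) T ≫ (L g).map a) ↔ RepWith P a := by
  rw [repWith_cancel_left, repWith_L_iff]

theorem diagonal_L {F G : Sp S} (f : F ⟶ G) :
    pullback.diagonal ((L g).map f) = (L g).map (pullback.diagonal f) ≫
      (isPullback_L (g := g) (IsPullback.of_hasPullback f f)).isoPullback.hom := by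
  apply pullback.hom_ext
  · rw [pullback.diagonal_fst, Category.assoc, IsPullback.isoPullback_hom_fst, ← Functor.map_comp,
      pullback.diagonal_fst, CategoryTheory.Functor.map_id]
  · rw [pullback.diagonal_snd, Category.assoc, IsPullback.isoPullback_hom_snd, ← Functor.map_comp,
      pullback.diagonal_snd, CategoryTheory.Functor.map_id]

theorem repWith_diagonal_L_iff {F G : Sp S} (f : F ⟶ G) :
    RepWith P (pullback.diagonal ((L g).map f)) ↔ RepWith P (pullback.diagonal f) := by
  rw [diagonal_L, repWith_cancel_right, repWith_L_iff]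

theorem isSeparatedMor_L_iff {F G : Sp S} (f : F ⟶ G) : IsSeparatedMor ((L g).map f) ↔ IsSeparatedMor f :=
  repWith_diagonal_L_iff (P := @IsClosedImmersion) f

theorem isQuasiSeparatedMor_L_iff {F G : Sp S} (f : F ⟶ G) :
    IsQuasiSeparatedMor ((L g).map f) ↔ IsQuasiSeparatedMor f :=
  repWith_diagonal_L_iff (P := @QuasiCompact) f

end RepWith

section LocP

/-- Lifting a chart diagram of `j_! f`. -/
theorem exists_lift_diagram {F G : Sp S} (f : F ⟶ G) {U' V' : Over S'} (a' : (yon S').obj U' ⟶ (L g).obj F)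
    (b' : (yon S').obj V' ⟶ (L g).obj G) (h' : U' ⟶ V') (w : a' ≫ (L g).map f = (yon S').map h' ≫ b') :
    ∃ (U V : Over S) (eU : (Over.map g).obj U ≅ U') (eV : (Over.map g).obj V ≅ V')
      (a : (yon S).obj U ⟶ F) (b : (yon S).obj V ⟶ G) (h : U ⟶ V),
      (yon S').map eU.hom ≫ a' = yonHom U ≫ (L g).map a ∧
      (yon S').map eV.hom ≫ b' = yonHom V ≫ (L g).map b ∧
      eU.hom ≫ h' = (Over.map g).map h ≫ eV.hom ∧ a ≫ f = (yon S).map h ≫ b := by
  obtain ⟨U, eU, a, ha⟩ := exists_lift (g := g) a'
  obtain ⟨V, eV, b, hb⟩ := exists_lift (g := g) b'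
  let k : (Over.map g).obj U ⟶ (Over.map g).obj V := eU.hom ≫ h' ≫ eV.inv
  let k' : (L g).obj ((yon S).obj U) ⟶ (L g).obj ((yon S).obj V) :=
    inv (yonHom (g := g) U) ≫ (yon S').map k ≫ yonHom V
  have hk' : k' ≫ (L g).map b = (L g).map (a ≫ f) := by
    simp only [k', Category.assoc]
    rw [← hb, ← Functor.map_comp_assoc, show k ≫ eV.hom = eU.hom ≫ h' by simp [k], Functor.map_comp_assoc, ← w,
      reassoc_of% ha, IsIso.inv_hom_id_assoc, Functor.map_comp]
  obtain ⟨h₀, h1, h2⟩ := exists_hom_of_comp (g := g) (a ≫ f) b k' hk'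
  obtain ⟨h, rfl⟩ := (yon S).map_surjective h₀
  refine ⟨U, V, eU, eV, a, b, h, ha, hb, ?_, h2.symm⟩
  have h3 : (yon S').map ((Over.map g).map h) ≫ yonHom (g := g) V = (yon S').map k ≫ yonHom V := by
    rw [yonHom_naturality, h1]
    simp [k']
  have h4 : (yon S').map ((Over.map g).map h) = (yon S').map k := (cancel_mono _).1 h3
  rw [(yon S').map_injective h4]
  simp [k]

theorem locP_L_iff {P : MorphismProperty Scheme.{u}} [P.RespectsIso] {F G : Sp S} (f : F ⟶ G) :
    LocP P ((L g).map f) ↔ LocP P f := by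
  constructor
  · intro H U V a b h ha hb hab
    refine H (U := (Over.map g).obj U) (V := (Over.map g).obj V) (yonHom (g := g) U ≫ (L g).map a)
      (yonHom (g := g) V ≫ (L g).map b) ((Over.map g).map h) ((repWith_chart_iff a).2 ha)
      ((repWith_chart_iff b).2 hb) ?_
    rw [Category.assoc, ← Functor.map_comp, hab, Functor.map_comp, ← Category.assoc, ← yonHom_naturality,
      Category.assoc]
  · intro H U' V' a' b' h' ha' hb' w
    obtain ⟨U, V, eU, eV, a, b, h, ha, hb, e, hab⟩ := exists_lift_diagram f a' b' h' w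
    have h1 : P h.left := H a b h ((repWith_chart_iff (g := g) a).1 (by
        rw [← ha, repWith_cancel_left]; exact ha')) ((repWith_chart_iff (g := g) b).1 (by
        rw [← hb, repWith_cancel_left]; exact hb')) hab
    have i1 : IsIso eU.hom.left := inferInstanceAs (IsIso ((Over.forget S').map eU.hom))
    have i2 : IsIso eV.hom.left := inferInstanceAs (IsIso ((Over.forget S').map eV.hom))
    have e' : eU.hom.left ≫ h'.left = h.left ≫ eV.hom.left := congrArg (fun t => t.left) e
    have h2 : P (eU.hom.left ≫ h'.left) := by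
      rw [e']
      exact (P.cancel_right_of_respectsIso _ _).2 h1
    exact (P.cancel_left_of_respectsIso _ _).1 h2

end LocP

section QC

theorem etaleLocally_L_iff {P : Scheme.{u} → Prop} (hP : ∀ {U V : Scheme.{u}}, (U ≅ V) → P U → P V) (F : Sp S) :
    EtaleLocally P ((L g).obj F) ↔ EtaleLocally P F := by
  constructor
  · rintro ⟨U', p, h1, h2, h3⟩
    obtain ⟨U, e, a, ha⟩ := exists_lift (g := g) p
    refine ⟨U, a, (repWith_chart_iff (g := g) a).1 (by rw [← ha, repWith_cancel_left]; exact h1),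
      (repWith_chart_iff (g := g) a).1 (by rw [← ha, repWith_cancel_left]; exact h2), ?_⟩
    exact hP ((Over.forget S').mapIso e).symm h3
  · rintro ⟨U, a, h1, h2, h3⟩
    exact ⟨(Over.map g).obj U, yonHom (g := g) U ≫ (L g).map a, (repWith_chart_iff a).2 h1,
      (repWith_chart_iff a).2 h2, h3⟩

theorem etaleLocally_of_iso {S : Scheme.{u}} {P : Scheme.{u} → Prop} {F G : Sp S} (e : F ≅ G)
    (h : EtaleLocally P F) : EtaleLocally P G := by
  obtain ⟨U, p, h1, h2, h3⟩ := h
  exact ⟨U, p ≫ e.hom, (repWith_cancel_right _ _).2 h1, (repWith_cancel_right _ _).2 h2, h3⟩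

theorem isQuasiCompactSp_L_iff (F : Sp S) : IsQuasiCompactSp ((L g).obj F) ↔ IsQuasiCompactSp F :=
  etaleLocally_L_iff (P := fun U => CompactSpace ↥U) (fun e _ => e.hom.homeomorph.compactSpace) F

theorem isLocNoethSp_L_iff (F : Sp S) : IsLocNoethSp ((L g).obj F) ↔ IsLocNoethSp F :=
  etaleLocally_L_iff (P := IsLocallyNoetherian) (fun e _ => isLocallyNoetherian_of_isOpenImmersion e.inv) F

theorem isQuasiCompactMor_L_iff {F G : Sp S} (f : F ⟶ G) :
    IsQuasiCompactMor ((L g).map f) ↔ IsQuasiCompactMor f := by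
  constructor
  · intro H Z Z' hZ hZq z fst snd sq
    rw [← isQuasiCompactSp_L_iff (g := g)]
    exact H (isAlgSpace_L hZ) ((isQuasiCompactSp_L_iff Z).2 hZq) _ _ _ (isPullback_L sq)
  · intro H Z Z' hZ hZq z fst snd sq
    obtain ⟨Z₀, Z₀', e, e', z₀, fst₀, snd₀, -, -, -, sq₀⟩ := exists_isPullback_of_L f z sq
    refine etaleLocally_of_iso e' ((isQuasiCompactSp_L_iff Z₀').2 ?_)
    exact H (isAlgSpace_of_L (g := g) (hZ.of_iso e.symm))
      ((isQuasiCompactSp_L_iff (g := g) Z₀).1 (etaleLocally_of_iso e.symm hZq)) z₀ fst₀ snd₀ sq₀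

end QC

section Closed

/-- The homeomorphism on points induced by an isomorphism of sheaves. -/
noncomputable def ptsHomeo {S : Scheme.{u}} {F G : Sp S} (e : F ≅ G) : Points F ≃ₜ Points G where
  toFun := Points.map e.hom
  invFun := Points.map e.inv
  left_inv x := by rw [← Points.map_comp, e.hom_inv_id, Points.map_id]
  right_inv x := by rw [← Points.map_comp, e.inv_hom_id, Points.map_id]
  continuous_toFun := Points.continuous_map _
  continuous_invFun := Points.continuous_map _

theorem map_L_eq {F G : Sp S} (f : F ⟶ G) :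
    Points.map ((L g).map f) = lptHomeo g G ∘ Points.map f ∘ (lptHomeo g F).symm := by
  funext x
  obtain ⟨x, rfl⟩ := (lptHomeo g F).surjective x
  rw [Function.comp_apply, Function.comp_apply, Homeomorph.symm_apply_apply]
  exact map_lpt g f x

theorem isClosedMor_L_iff {F G : Sp S} (f : F ⟶ G) : IsClosedMor ((L g).map f) ↔ IsClosedMor f := by
  change IsClosedMap (Points.map ((L g).map f)) ↔ IsClosedMap (Points.map f)
  rw [map_L_eq]
  constructor
  · intro h
    have h1 := ((lptHomeo g G).symm.isClosedMap.comp h).comp (lptHomeo g F).isClosedMap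
    have h2 : (lptHomeo g G).symm ∘ (lptHomeo g G ∘ Points.map f ∘ (lptHomeo g F).symm) ∘ lptHomeo g F =
        Points.map f := by
      funext x
      simp
    rw [← Function.comp_assoc] at h2
    rwa [h2] at h1
  · intro h
    exact (lptHomeo g G).isClosedMap.comp (h.comp (lptHomeo g F).symm.isClosedMap)

theorem isClosedMor_of_iso {S : Scheme.{u}} {F G F' G' : Sp S} {f : F ⟶ G} {f' : F' ⟶ G'} (e : F ≅ F')
    (e' : G ≅ G') (w : e.hom ≫ f' = f ≫ e'.hom) (h : IsClosedMor f) : IsClosedMor f' := by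
  have h1 : f' = e.inv ≫ f ≫ e'.hom := by rw [← w, e.inv_hom_id_assoc]
  have h2 : Points.map f' = ptsHomeo e' ∘ Points.map f ∘ ptsHomeo e.symm := by
    funext x
    rw [h1, Points.map_comp, Points.map_comp]
    rfl
  change IsClosedMap (Points.map f')
  rw [h2]
  exact (ptsHomeo e').isClosedMap.comp ((show IsClosedMap (Points.map f) from h).comp (ptsHomeo e.symm).isClosedMap)

theorem isUnivClosedMor_L_iff {F G : Sp S} (f : F ⟶ G) : IsUnivClosedMor ((L g).map f) ↔ IsUnivClosedMor f := by
  constructor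
  · intro H Z Z' hZ z fst snd sq
    rw [← isClosedMor_L_iff (g := g)]
    exact H (isAlgSpace_L hZ) _ _ _ (isPullback_L sq)
  · intro H Z Z' hZ z fst snd sq
    obtain ⟨Z₀, Z₀', e, e', z₀, fst₀, snd₀, -, -, hs, sq₀⟩ := exists_isPullback_of_L f z sq
    refine isClosedMor_of_iso e' e hs ((isClosedMor_L_iff snd₀).2 ?_)
    exact H (isAlgSpace_of_L (g := g) (hZ.of_iso e.symm)) z₀ fst₀ snd₀ sq₀

end Closed

section Main

theorem isFiniteTypeMor_L_iff {F G : Sp S} (f : F ⟶ G) : IsFiniteTypeMor ((L g).map f) ↔ IsFiniteTypeMor f :=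
  and_congr (locP_L_iff f) (isQuasiCompactMor_L_iff f)

theorem isFinitePresentationMor_L_iff {F G : Sp S} (f : F ⟶ G) :
    IsFinitePresentationMor ((L g).map f) ↔ IsFinitePresentationMor f :=
  and_congr (locP_L_iff f) (and_congr (isQuasiCompactMor_L_iff f) (isQuasiSeparatedMor_L_iff f))

theorem isProperMor_L_iff {F G : Sp S} (f : F ⟶ G) : IsProperMor ((L g).map f) ↔ IsProperMor f :=
  and_congr (isSeparatedMor_L_iff f) (and_congr (isFiniteTypeMor_L_iff f) (isUnivClosedMor_L_iff f))

/-- Transfer of `HasAtMor` for a property invariant under isomorphisms of pointed morphisms. -/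
theorem hasAtMor_L_iff {Q : ∀ (U V : Scheme.{u}), (U ⟶ V) → ↥U → Prop}
    (hQ : ∀ {U V U' V' : Scheme.{u}} (h : U ⟶ V) (h' : U' ⟶ V') (e : U ≅ U') (e' : V ≅ V') (_ : e.hom ≫ h' = h ≫ e'.hom)
      (x : ↥U), Q U' V' h' (e.hom x) → Q U V h x)
    {F G : Sp S} (f : F ⟶ G) (x : Points F) :
    HasAtMor Q ((L g).map f) (lpt g F x) ↔ HasAtMor Q f x := by
  constructor
  · rintro ⟨U', V', a', b', h', u', ha', hb', w, hu, hq⟩
    obtain ⟨U, V, eU, eV, a, b, h, ha, hb, e, hab⟩ := exists_lift_diagram f a' b' h' w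
    have e' : eU.hom.left ≫ h'.left = h.left ≫ eV.hom.left := congrArg (fun t => t.left) e
    let u : ↥U.left := eU.inv.left u'
    have hu' : eU.hom.left u = u' := by
      have h1 : eU.inv.left ≫ eU.hom.left = 𝟙 _ := by rw [← Over.comp_left, eU.inv_hom_id, Over.id_left]
      change (eU.inv.left ≫ eU.hom.left) u' = u'
      rw [h1]
      rfl
    refine ⟨U, V, a, b, h, u, (repWith_chart_iff (g := g) a).1 (by rw [← ha, repWith_cancel_left]; exact ha'),
      (repWith_chart_iff (g := g) b).1 (by rw [← hb, repWith_cancel_left]; exact hb'), hab, ?_, ?_⟩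
    · apply lpt_injective g F
      rw [lpt_ofPt, ← ha, K609.Points.ofPt_yon_map_comp, hu', hu]
    · refine hQ h.left h'.left ((Over.forget S').mapIso eU) ((Over.forget S').mapIso eV) e' u ?_
      change Q U'.left V'.left h'.left (eU.hom.left u)
      rw [hu']
      exact hq
  · rintro ⟨U, V, a, b, h, u, ha, hb, w, hu, hq⟩
    refine ⟨(Over.map g).obj U, (Over.map g).obj V, yonHom (g := g) U ≫ (L g).map a,
      yonHom (g := g) V ≫ (L g).map b, (Over.map g).map h, u, (repWith_chart_iff a).2 ha,
      (repWith_chart_iff b).2 hb, ?_, ?_, hq⟩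
    · rw [Category.assoc, ← Functor.map_comp, w, Functor.map_comp, ← Category.assoc, ← yonHom_naturality,
        Category.assoc]
    · rw [← lpt_ofPt, hu]

theorem relDimLE_L_iff (d : ℕ) {F G : Sp S} (f : F ⟶ G) (hlft : LocP @LocallyOfFiniteType f) :
    CurvSt.RelDimLE d ((L g).map f) ↔ CurvSt.RelDimLE d f := by
  have key : ∀ x : Points F, HasAtMor (fun _ _ h u => FlatMor.fibreDimAt h u ≤ (d : WithBot ℕ∞)) ((L g).map f)
      (lpt g F x) ↔ HasAtMor (fun _ _ h u => FlatMor.fibreDimAt h u ≤ (d : WithBot ℕ∞)) f x := by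
    intro x
    have hl : LocP @LocallyOfFiniteType ((L g).map f) := (locP_L_iff f).2 hlft
    constructor
    · rintro ⟨U', V', a', b', h', u', ha', hb', w, hu, hq⟩
      obtain ⟨U, V, eU, eV, a, b, h, ha, hb, e, hab⟩ := exists_lift_diagram f a' b' h' w
      have e' : eU.hom.left ≫ h'.left = h.left ≫ eV.hom.left := congrArg (fun t => t.left) e
      have i1 : IsIso eU.hom.left := inferInstanceAs (IsIso ((Over.forget S').map eU.hom))
      have i2 : IsIso eV.hom.left := inferInstanceAs (IsIso ((Over.forget S').map eV.hom))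
      let u : ↥U.left := eU.inv.left u'
      have hu' : eU.hom.left u = u' := by
        have h1 : eU.inv.left ≫ eU.hom.left = 𝟙 _ := by rw [← Over.comp_left, eU.inv_hom_id, Over.id_left]
        change (eU.inv.left ≫ eU.hom.left) u' = u'
        rw [h1]
        rfl
      have hlf : LocallyOfFiniteType h'.left := hl a' b' h' ha' hb' w
      refine ⟨U, V, a, b, h, u, (repWith_chart_iff (g := g) a).1 (by rw [← ha, repWith_cancel_left]; exact ha'),
        (repWith_chart_iff (g := g) b).1 (by rw [← hb, repWith_cancel_left]; exact hb'), hab, ?_, ?_⟩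
      · apply lpt_injective g F
        rw [lpt_ofPt, ← ha, K609.Points.ofPt_yon_map_comp, hu', hu]
      · change FlatMor.fibreDimAt h.left u ≤ (d : WithBot ℕ∞)
        rw [← K616.DimInv.fibreDimAt_square h'.left h.left eU.hom.left eV.hom.left e' u, hu']
        exact hq
    · rintro ⟨U, V, a, b, h, u, ha, hb, w, hu, hq⟩
      refine ⟨(Over.map g).obj U, (Over.map g).obj V, yonHom (g := g) U ≫ (L g).map a,
        yonHom (g := g) V ≫ (L g).map b, (Over.map g).map h, u, (repWith_chart_iff a).2 ha,
        (repWith_chart_iff b).2 hb, ?_, ?_, hq⟩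
      · rw [Category.assoc, ← Functor.map_comp, w, Functor.map_comp, ← Category.assoc, ← yonHom_naturality,
          Category.assoc]
      · rw [← lpt_ofPt, hu]
  constructor
  · intro H x
    exact (key x).1 (H _)
  · intro H x
    obtain ⟨x, rfl⟩ := lpt_surjective g F x
    exact (key x).2 (H x)

/-- `j_! F` is representable iff `F` is. -/
theorem isRepresentable_L_iff (F : Sp S) :
    ((L g).obj F).obj.IsRepresentable ↔ F.obj.IsRepresentable := by
  constructor
  · rintro ⟨T', ⟨r⟩⟩
    let e := isoOfRepresentableBy r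
    obtain ⟨T, e', x, hx⟩ := exists_lift (g := g) e.hom
    have h1 : IsIso (yonHom (g := g) T ≫ (L g).map x) := by
      rw [← hx]
      infer_instance
    have h2 : IsIso ((L g).map x) := IsIso.of_isIso_comp_left (yonHom (g := g) T) _
    have h3 : IsIso x := isIso_of_L h2
    exact ⟨T, ⟨representableByOfIso (asIso x)⟩⟩
  · rintro ⟨T, ⟨r⟩⟩
    let e := isoOfRepresentableBy r
    exact ⟨(Over.map g).obj T, ⟨representableByOfIso (yonIso (g := g) T ≪≫ (L g).mapIso e)⟩⟩

end Main

end K902.Slice
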