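import Groth.Prelude.Def_AlgSp3

/-!
`LocP` on morphisms of representable sheaves: for a property `P` of morphisms of schemes stable under base change along
etale morphisms and under precomposition with etale morphisms, `P f.left` implies `LocP P (h_f)`.
-/

set_option autoImplicit false
universe u

open CategoryTheory CategoryTheory.Limits AlgebraicGeometry Opposite

namespace K902.LocSch

variable {S : Scheme.{u}}

/-- If `P` is stable under etale base change (for arbitrary cartesian squares) and under precomposition with etale morphisms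
then `P f` gives `LocP P (h_f)`. -/
theorem locP_yon_map_of (P Q : MorphismProperty Scheme.{u})
    (hbc : ∀ {X Y X' Y' : Scheme.{u}} (f : X ⟶ Y) (f' : X' ⟶ Y') (g' : X' ⟶ X) (g : Y' ⟶ Y),
      IsPullback g' f' f g → Etale g → P f → P f')
    (hpre : ∀ {U X Y : Scheme.{u}} (a : U ⟶ X) (f : X ⟶ Y), Etale a → P f → Q (a ≫ f))
    {X Y : Over S} (f : X ⟶ Y) (hf : P f.left) : AlgSp.LocP Q ((AlgSp.yon S).map f) := by
  intro U V a b h ha hb hab
  obtain ⟨a, rfl⟩ := (AlgSp.yon S).map_surjective a
  obtain ⟨b, rfl⟩ := (AlgSp.yon S).map_surjective b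
  have ha' : Etale a.left := (AlgSp.repWith_yon_map_iff _ _).1 ha
  have hb' : Etale b.left := (AlgSp.repWith_yon_map_iff _ _).1 hb
  rw [← Functor.map_comp, ← Functor.map_comp] at hab
  have hab' : a.left ≫ f.left = h.left ≫ b.left :=
    congrArg CommaMorphism.left ((AlgSp.yon S).map_injective hab)
  let c : U.left ⟶ pullback f.left b.left := pullback.lift a.left h.left hab'
  have hc : Etale c := by
    have h1 : Etale (c ≫ pullback.fst f.left b.left) := by
      rw [pullback.lift_fst]; exact ha'
    exact MorphismProperty.of_postcomp (W := @Etale) (W' := @Etale) _ (pullback.fst f.left b.left)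
      inferInstance h1
  have h2 : P (pullback.snd f.left b.left) :=
    hbc f.left _ (pullback.fst f.left b.left) b.left (IsPullback.of_hasPullback _ _) hb' hf
  have h3 := hpre c _ hc h2
  rwa [pullback.lift_snd] at h3

/-- `P` implies `Q` gives `LocP P f → LocP Q f`. -/
theorem locP_mono {P Q : MorphismProperty Scheme.{u}} (h : P ≤ Q) {F G : AlgSp.Sp S} {f : F ⟶ G}
    (hf : AlgSp.LocP P f) : AlgSp.LocP Q f :=
  fun _ _ a b i ha hb hab => h _ (hf a b i ha hb hab)

end K902.LocSch
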