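import Groth.Agent.AlgSt.K738.RepDiag
import Groth.Agent.AlgSt.K738.RespIso
import Groth.Agent.AlgSt.K735.Rep
import Groth.Agent.AlgSt.K735.Fp
import Groth.Agent.CurvSt.K899.CurveFam
import Groth.Prelude.Def_AlgSt3

/-!
# Smooth stacks over `S` from smooth charts

* `repByAlgSpWith_smooth_self`: the structure functor of a slice `(Sch/V)` is smooth if `V ⟶ S` is smooth;
* `locQ_toSelf`: `𝒳 ⟶ S` has `P` (in the sense of `LocQ`) if there is a smooth surjective chart `U ⟶ 𝒳` such that `U ⟶ S`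
  has `P`.
-/

set_option autoImplicit false
set_option backward.isDefEq.respectTransparency false
set_option backward.isDefEq.respectTransparency.types false

universe v₂ u₂ u

open CategoryTheory CategoryTheory.Limits AlgebraicGeometry Opposite K735.Fib K735.Fp AlgSp

namespace K902.SelfChart

variable {S : Scheme.{u}}

/-- The fibre product of two slices over the base category. -/
theorem secRep_prod {U V : Over S} (y : FibCat.overCat U ⥤ᵇ FibCat.selfOver (Over S))
    (g : FibCat.overCat V ⥤ᵇ FibCat.selfOver (Over S)) {W : Over S} (a : W ⟶ U) (b : W ⟶ V)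
    (H : ∀ (T : Over S) (s : T ⟶ U) (t : T ⟶ V), ∃ l : T ⟶ W, l ≫ a = s ∧ l ≫ b = t)
    (H' : ∀ (T : Over S) (l l' : T ⟶ W), l ≫ a = l' ≫ a → l ≫ b = l' ≫ b → l = l') :
    Nonempty (K738.SecRep (FibCat.fpFst y g) ((yon S).obj W) ((yon S).map a)) := by
  have e0 : ∀ z : (FibCat.fp y g).obj, z.obj.fst.left = z.obj.snd.left := fun z => (fp_snd_eq z).symm
  have e1 : ∀ {z z' : (FibCat.fp y g).obj} (m : z ⟶ z'),
      m.hom.snd.left = eqToHom (e0 z).symm ≫ m.hom.fst.left ≫ eqToHom (e0 z') := fun m => fp_map_snd m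
  choose l hl₁ hl₂ using fun z : (FibCat.fp y g).obj => H z.obj.fst.left z.obj.fst.hom
    (eqToHom (e0 z) ≫ z.obj.snd.hom)
  refine ⟨⟨fun z => ⟨l z⟩, ?_, ?_, ?_, ?_, ?_⟩⟩
  · intro z z' m
    apply ULift.ext
    change m.hom.fst.left ≫ l z' = l z
    apply H'
    · rw [Category.assoc, hl₁, hl₁]
      exact Over.w m.hom.fst
    · rw [Category.assoc, hl₂, hl₂, ← Over.w m.hom.snd]
      change _ = _ ≫ m.hom.snd.left ≫ z'.obj.snd.hom
      rw [e1]
      simp
  · intro z z' k hk
    have hk' : k ≫ l z' = l z := congrArg ULift.down hk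
    have hk1 : k ≫ z'.obj.fst.hom = z.obj.fst.hom := by
      rw [← hl₁, ← Category.assoc]
      exact (congrArg (fun t => t ≫ a) hk').trans (hl₁ z)
    have hk2 : (eqToHom (e0 z).symm ≫ k ≫ eqToHom (e0 z')) ≫ z'.obj.snd.hom = z.obj.snd.hom := by
      have h1 : k ≫ l z' ≫ b = l z ≫ b := by rw [← Category.assoc, hk']
      rw [hl₂, hl₂] at h1
      rw [Category.assoc, Category.assoc]
      exact (congrArg (fun t => eqToHom (e0 z).symm ≫ t) h1).trans (by simp)
    let c : z.obj.fst ⟶ z'.obj.fst := Over.homMk k hk1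
    let d : z.obj.snd ⟶ z'.obj.snd := Over.homMk (eqToHom (e0 z).symm ≫ k ≫ eqToHom (e0 z')) hk2
    have h3 : y.map c = eqToHom (y.w_obj z.obj.fst) ≫ k ≫ eqToHom (y.w_obj z'.obj.fst).symm := map_map y c
    have h4 : g.map d = eqToHom (g.w_obj z.obj.snd) ≫ (eqToHom (e0 z).symm ≫ k ≫ eqToHom (e0 z')) ≫
      eqToHom (g.w_obj z'.obj.snd).symm := map_map g d
    have h5 : ∀ z : (FibCat.fp y g).obj, ∃ h, z.obj.iso.hom = eqToHom h :=
      fun z => ⟨(fp_vert z).eq.symm, (fp_vert z).map_eq⟩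
    obtain ⟨i1, j1⟩ := h5 z
    obtain ⟨i2, j2⟩ := h5 z'
    refine ⟨homFp c d ?_, rfl⟩
    rw [j1, j2, h3, h4]
    simp only [Category.assoc, eqToHom_trans, eqToHom_trans_assoc]
  · intro z z' m m' h
    have h1 : m.hom.fst = m'.hom.fst := Over.OverMorphism.ext h
    refine fp_hom_ext h1 (Over.OverMorphism.ext ?_)
    rw [e1, e1, h1]
  · rintro T ⟨s⟩
    let A : Over U := Over.mk (s ≫ a)
    let B : Over V := Over.mk (s ≫ b)
    let i : y.obj A ≅ g.obj B := eqToIso ((y.w_obj A).trans (g.w_obj B).symm)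
    have hi : Vert (FibCat.selfOver (Over S)).p i.hom := vert_of_map_eq ((y.w_obj A).trans (g.w_obj B).symm) rfl
    let z : (FibCat.fp y g).obj := mkFp y g A B i hi
    refine ⟨z, rfl, ?_⟩
    apply ULift.ext
    change 𝟙 _ ≫ l z = s
    rw [Category.id_comp]
    apply H'
    · rw [hl₁]
      rfl
    · rw [hl₂]
      exact Category.id_comp _
  · intro z
    apply ULift.ext
    change l z ≫ a = 𝟙 _ ≫ z.obj.fst.hom
    rw [hl₁, Category.id_comp]

/-- The structure functor of a smooth scheme is smooth. -/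
theorem repByAlgSpWith_smooth_self {V : Over S} [Smooth V.hom] (g : FibCat.overCat V ⥤ᵇ FibCat.selfOver (Over S)) :
    AlgSt.RepByAlgSpWith (LocP @Smooth) g := by
  refine K738.repByAlgSpWith_of_secRep fun U y => ?_
  let W : Over S := Over.mk (pullback.fst U.hom V.hom ≫ U.hom)
  let a : W ⟶ U := Over.homMk (pullback.fst U.hom V.hom) rfl
  let b : W ⟶ V := Over.homMk (pullback.snd U.hom V.hom) pullback.condition.symm
  refine ⟨⟨(yon S).obj W, IsAlgSpace.yon_obj _⟩, (yon S).map a, ?_, secRep_prod y g a b ?_ ?_⟩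
  · exact K899.CurveFam.locP_smooth a (inferInstanceAs (Smooth (pullback.fst U.hom V.hom)))
  · intro T s t
    refine ⟨Over.homMk (pullback.lift s.left t.left ((Over.w s).trans (Over.w t).symm)) ?_, ?_, ?_⟩
    · change pullback.lift _ _ _ ≫ pullback.fst U.hom V.hom ≫ U.hom = _
      rw [pullback.lift_fst_assoc]
      exact Over.w s
    · exact Over.OverMorphism.ext (pullback.lift_fst _ _ _)
    · exact Over.OverMorphism.ext (pullback.lift_snd _ _ _)
  · intro T l l' h1 h2
    apply Over.OverMorphism.ext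
    apply pullback.hom_ext
    · exact congrArg CommaMorphism.left h1
    · exact congrArg CommaMorphism.left h2

/-- Functors to the base category are the structure functors. -/
def isoSelf {𝒳 : BasedCategory.{v₂, u₂} (Over S)} (F G : 𝒳 ⥤ᵇ FibCat.selfOver (Over S)) : F ≅ G :=
  eqToIso (by
    have h : F.toFunctor = G.toFunctor := by
      have h1 : F.toFunctor ⋙ 𝟭 (Over S) = 𝒳.p := F.w
      have h2 : G.toFunctor ⋙ 𝟭 (Over S) = 𝒳.p := G.w
      exact h1.trans h2.symm
    cases F; cases G; cases h; rfl)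

theorem locQ_toSelf {P : MorphismProperty (AlgSp.Sp S)} {𝒳 : BasedCategory.{v₂, u₂} (Over S)} {U : Over S}
    (x : FibCat.overCat U ⥤ᵇ 𝒳) (hx : AlgSt.RepByAlgSpWith (LocP @Smooth) x)
    (hx' : AlgSt.RepByAlgSpWith IsSurjectiveMor x)
    (hP : P ((yon S).map (Over.homMk U.hom (Category.comp_id _) : U ⟶ Over.mk (𝟙 S)))) :
    AlgSt.LocQ P (FibCat.toSelf 𝒳) := by
  have : Smooth (Over.mk (𝟙 S)).hom := inferInstanceAs (Smooth (𝟙 S))
  exact ⟨U, Over.mk (𝟙 S), x, FibCat.toSelf _, Over.homMk U.hom (Category.comp_id _), isoSelf _ _, hx, hx',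
    repByAlgSpWith_smooth_self _, hP⟩

theorem locQ_smooth_toSelf {𝒳 : BasedCategory.{v₂, u₂} (Over S)} {U : Over S}
    (x : FibCat.overCat U ⥤ᵇ 𝒳) (hx : AlgSt.RepByAlgSpWith (LocP @Smooth) x)
    (hx' : AlgSt.RepByAlgSpWith IsSurjectiveMor x) (hP : Smooth U.hom) :
    AlgSt.LocQ (LocP @Smooth) (FibCat.toSelf 𝒳) :=
  locQ_toSelf x hx hx' (K899.CurveFam.locP_smooth _ hP)

/-- The converse: if the structure functor of a slice is smooth then so is the scheme. -/
theorem smooth_of_repByAlgSpWith {V : Over S} {g : FibCat.overCat V ⥤ᵇ FibCat.selfOver (Over S)}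
    (h : AlgSt.RepByAlgSpWith (LocP @Smooth) g) : Smooth V.hom := by
  let t : V ⟶ Over.mk (𝟙 S) := Over.homMk V.hom (Category.comp_id _)
  obtain ⟨R⟩ := secRep_prod (FibCat.toSelf (FibCat.overCat (Over.mk (𝟙 S)))) g t (𝟙 V)
    (fun T s t' => ⟨t', by
      apply Over.OverMorphism.ext
      have h1 := Over.w s
      have h2 := Over.w t'
      change t'.left ≫ V.hom = s.left
      rw [h2, ← h1]
      exact Category.comp_id _, Category.comp_id _⟩)
    (fun T l l' _ h2 => by rwa [Category.comp_id, Category.comp_id] at h2)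
  obtain ⟨e, he, h1⟩ := R.exists_equiv
  have h2 := (K735.Rep.RepOver.of_rep (h (Over.mk (𝟙 S)) (FibCat.toSelf _)) e he).2
  rw [h1] at h2
  exact AlgSp.locP_yon_map h2

/-- A stack locally of finite presentation over `S` has a smooth surjective chart `U` locally of finite presentation
over `S`. -/
theorem exists_atlas_lfp {𝒳 : BasedCategory.{v₂, u₂} (Over S)}
    (h : AlgSt.LocQ (LocP @LocallyOfFinitePresentation) (FibCat.toSelf 𝒳)) :
    ∃ (U : Over S) (x : FibCat.overCat U ⥤ᵇ 𝒳), AlgSt.RepByAlgSpWith (LocP @Smooth) x ∧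
      AlgSt.RepByAlgSpWith IsSurjectiveMor x ∧ LocallyOfFinitePresentation U.hom := by
  obtain ⟨U, V, x, y, g, -, hx, hxs, hy, hP⟩ := h
  have h1 : LocallyOfFinitePresentation g.left := AlgSp.locP_yon_map hP
  have h2 : Smooth V.hom := smooth_of_repByAlgSpWith hy
  refine ⟨U, x, hx, hxs, ?_⟩
  rw [← Over.w g]
  infer_instance

end K902.SelfChart
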