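import Groth.Agent.CurvSt.K902.FamLift
import Groth.Agent.CurvSt.K902.SelfChart
import Groth.Agent.CurvSt.K901.OpenSub
import Groth.Agent.CurvSt.K901.SchFib
import Groth.Prelude.Def_AlgSpMor6

/-!
# Smoothness of charts of the stack of curves along local complete intersection curves
-/

set_option autoImplicit false
set_option backward.isDefEq.respectTransparency false
set_option backward.isDefEq.respectTransparency.types false

universe u

open CategoryTheory CategoryTheory.Limits AlgebraicGeometry Opposite K862.Fib K862.Yon IsLocalRing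

namespace K902.CurvesSmooth

open CurvSt AlgSp K901.EtSch K901.Loci K902.FamLift K902.CurveLift K902.StSmooth

variable {S : Scheme.{u}}

/-- An unpointed family of schemes. -/
def mkFam (T : Over S) {X : Scheme.{u}} (f : X ⟶ T.left) : PtFamObj S 0 :=
  ⟨T, X, f, Fin.elim0, fun i => i.elim0⟩

/-- A morphism of unpointed families. -/
def mkHom {B B' : PtFamObj S 0} (g : B.base ⟶ B'.base) (a : B.C ⟶ B'.C) (h : IsPullback a B.f B'.f g.left) : B ⟶ B' :=
  ⟨g, a, h, fun i => i.elim0⟩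

theorem smooth_of_chart [FibCat.IsFibGrpd (Curves S 0).p] (H : SynLift.{u}) {W : Over S}
    (x : FibCat.overCat W ⥤ᵇ Curves S 0) (hx : AlgSt.RepByAlgSpWith (LocP @Smooth) x) {T' X' : Scheme.{u}}
    {g : T' ⟶ (objOf x).1.obj.base.left} [Etale g] {q : X' ⟶ T'}
    {j : (yon S).obj ((objOf x).1.obj.ptOver (q ≫ g)) ⟶ (objOf x).1.obj.X}
    (sq : IsPullback j ((yon S).map ((objOf x).1.obj.fibHom g q)) (objOf x).1.obj.f
      ((yon S).map ((objOf x).1.obj.ptHom g)))
    (hproj : RelProj.IsHProjective q) (hlci : ∀ x, Synt.IsKoszulAt q x) (hns : NsFin q)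
    [LocallyOfFinitePresentation (g ≫ (objOf x).1.obj.base.hom)] : Smooth (g ≫ (objOf x).1.obj.base.hom) := by
  obtain ⟨f1, f2, f3, f4⟩ := K901.SchFib.facts (objOf x).1.property sq
  have i1 : Flat q := f1
  have i2 : IsProper q := f2
  have i3 : LocallyOfFinitePresentation q := f3
  have f4' : ∀ x, FlatMor.fibreDimAt q x ≤ 1 := fun x => by simpa using f4 x
  let A := (objOf x).1.obj
  have hW : A.base = W := (objOf x).2
  let B : PtFamObj S 0 := schFam A sq
  rw [← Scheme.Hom.smoothLocus_eq_top_iff, eq_top_iff]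
  intro v _
  let e : B.base ⟶ W := A.ptHom g ≫ eqToHom hW
  have he : Smooth e.left := by
    have h1 : e.left = g ≫ (eqToHom hW).left := rfl
    rw [h1]
    infer_instance
  have hB : LocallyOfFinitePresentation B.base.hom := ‹_›
  refine mem_smoothLocus_of_obj x hx (V := B.base) e v ?_
  intro R _ _ I _ hI _ str g₀ hv
  obtain ⟨X, f, k, sq', h1, h2, h3, h4⟩ := exists_lift_fam H q hproj f4' hlci hns I hI g₀.left
  have hpb := IsPullback.of_hasPullback q g₀.left
  have p1 : Flat (pullback.snd q g₀.left) := inferInstance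
  have p4 : ∀ x, FlatMor.fibreDimAt (pullback.snd q g₀.left) x ≤ 1 := fun x => by
    rw [K418.DimFlat.fibreDimAt_of_isPullback hpb x]
    exact f4' _
  let F₀ : PtFamObj S 0 := mkFam (Over.mk (Spec.map (CommRingCat.ofHom (Ideal.Quotient.mk I)) ≫ str))
    (pullback.snd q g₀.left)
  let F : PtFamObj S 0 := mkFam (Over.mk str) f
  let a : F₀ ⟶ B := mkHom g₀ (pullback.fst q g₀.left) hpb
  let b : F₀ ⟶ F := mkHom (cl I str) k sq'
  let A₀ : (Curves S 0).obj := K899.CurveFam.toCurves F₀ p1 (inferInstanceAs (IsProper (pullback.snd q g₀.left)))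
    (inferInstanceAs (LocallyOfFinitePresentation (pullback.snd q g₀.left))) p4
  let A' : (Curves S 0).obj := K899.CurveFam.toCurves F h1 h2 h3 h4
  let φ : A₀ ⟶ (objOf x).1 := ObjectProperty.homMk ((toSpFam S 0).map a ≫ schFamHom A sq)
  let ψ : A₀ ⟶ A' := ObjectProperty.homMk ((toSpFam S 0).map b)
  refine ⟨A₀, ⟨A', rfl⟩, φ, ψ, ?_, ?_⟩
  · have h5 : (Curves S 0).p.IsHomLift (g₀ ≫ A.ptHom g) φ := IsHomLift.map (Curves S 0).p φ
    have h6 : (Curves S 0).p.IsHomLift ((g₀ ≫ A.ptHom g) ≫ eqToHom hW) φ := inferInstance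
    rw [Category.assoc] at h6
    exact h6
  · exact IsHomLift.map (Curves S 0).p ψ

/-- Smoothness can be checked on an etale covering of the source. -/
theorem smooth_of_et_cover {X Y : Scheme.{u}} (f : X ⟶ Y)
    (H : ∀ x : X, ∃ (T : Scheme.{u}) (g : T ⟶ X) (t : T), Etale g ∧ g t = x ∧ Smooth (g ≫ f)) : Smooth f := by
  choose T g t hg ht hs using H
  let W : X → X.Opens := fun x => ⟨Set.range (g x), (have := hg x; (g x).isOpenMap.isOpen_range)⟩
  have hW : ⨆ x, W x = ⊤ := by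
    rw [eq_top_iff]
    intro x _
    exact TopologicalSpace.Opens.mem_iSup.2 ⟨x, ⟨t x, ht x⟩⟩
  rw [IsZariskiLocalAtSource.iff_of_iSup_eq_top (P := @Smooth) W hW]
  intro x
  have := hg x
  let l : T x ⟶ (W x).toScheme := IsOpenImmersion.lift (W x).ι (g x) (by
    rw [Scheme.Opens.range_ι]; exact subset_rfl)
  have hl : l ≫ (W x).ι = g x := IsOpenImmersion.lift_fac _ _ _
  have h1 : Etale l := by
    have : Etale (l ≫ (W x).ι) := by rw [hl]; infer_instance
    exact Etale.of_comp l (W x).ι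
  have h2 : Surjective l := ⟨fun y => by
    obtain ⟨z, hz⟩ := y.2
    refine ⟨z, (W x).ι.isOpenEmbedding.injective ?_⟩
    have h5 : (W x).ι (l z) = (l ≫ (W x).ι) z := rfl
    rw [h5, hl, hz]
    rfl⟩
  refine K597.etLoc_smooth.descend l _ h1 h2 ?_
  rw [← Category.assoc, hl]
  exact hs x

/-- The open locus of a chart, read on arbitrary objects over the object of the chart. -/
theorem chart_iff [FibCat.IsFibGrpd (Curves S 0).p] {Q : (Curves S 0).obj → Prop}
    (hQ : ObjectProperty.IsClosedUnderIsomorphisms Q) {U : Over S} (x : FibCat.overCat U ⥤ᵇ Curves S 0)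
    (W : U.left.Opens)
    (hW : ∀ g : (FibCat.overCat U).obj, Q (x.obj g) ↔ Set.range g.hom.left ⊆ (W : Set U.left))
    {B : (Curves S 0).obj} {e : (Curves S 0).p.obj B ⟶ U} (φ : B ⟶ (objOf x).1) [(Curves S 0).p.IsHomLift e φ] :
    Q B ↔ Set.range e.left ⊆ (W : Set U.left) := by
  have h1 := hW (Over.mk e)
  have h2 := arrAt_isHomLift x e
  let B' : (Curves S 0).p.Fiber ((Curves S 0).p.obj B) := ⟨B, rfl⟩
  let α : B' ⟶ objAt x e := cmpHom e (x := objOf x) (x' := B') (x'' := objAt x e) φ (arrAt x e)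
  have h3 : IsIso α.1 := inferInstance
  have h4 : B ≅ x.obj (Over.mk e) := @asIso _ _ _ _ α.1 h3
  exact (ObjectProperty.prop_iff_of_iso (P := Q) h4).trans h1

/-- Etale locally on the base every curve is an H-projective scheme (the content of S17304). -/
def HLoc (S : Scheme.{u}) : Prop :=
  ∀ (A : (Curves S 0).obj) (s : A.obj.base.left), ∃ (T' : Scheme.{u}) (g : T' ⟶ A.obj.base.left) (v : T')
    (X' : Scheme.{u}) (q : X' ⟶ T') (j : (yon S).obj (A.obj.ptOver (q ≫ g)) ⟶ A.obj.X), Etale g ∧ g v = s ∧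
      IsPullback j ((yon S).map (A.obj.fibHom g q)) A.obj.f ((yon S).map (A.obj.ptHom g)) ∧ RelProj.IsHProjective q

theorem smooth_of_openLocus [FibCat.IsFibGrpd (Curves S 0).p] (H : SynLift.{u}) (hloc : HLoc S)
    {Q : (Curves S 0).obj → Prop} (hQ : ObjectProperty.IsClosedUnderIsomorphisms Q)
    (hlci : ∀ A, Q A → IsLCIMor A.obj.f)
    (hns : ∀ A, Q A → GeomFib (fun _ _ _ X' q _ =>
            Set.Finite {x : ↥X' | ¬ ∃ U : X'.Opens, x ∈ U ∧ Smooth (U.ι ≫ q)}) A.obj)
    {U : Over S} (x : FibCat.overCat U ⥤ᵇ Curves S 0) (hx : AlgSt.RepByAlgSpWith (LocP @Smooth) x)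
    [LocallyOfFinitePresentation U.hom] (W : U.left.Opens)
    (hW : ∀ g : (FibCat.overCat U).obj, Q (x.obj g) ↔ Set.range g.hom.left ⊆ (W : Set U.left)) :
    Smooth (W.ι ≫ U.hom) := by
  apply smooth_of_et_cover
  intro w
  let A := (objOf x).1.obj
  have hA : A.base = U := (objOf x).2
  let ε : A.base ≅ U := eqToIso hA
  obtain ⟨T', g, v, X', q, j, hg, hv, sq, hproj⟩ := hloc (objOf x).1 (ε.inv.left (W.ι w))
  let W₁ : T'.Opens := (g ≫ ε.hom.left) ⁻¹ᵁ W
  have hεw : (g ≫ ε.hom.left) v = W.ι w := by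
    rw [Scheme.Hom.comp_apply, hv, ← Scheme.Hom.comp_apply, ← Over.comp_left, ε.inv_hom_id]
    rfl
  have hvW : v ∈ W₁ := by
    change (g ≫ ε.hom.left) v ∈ W
    rw [hεw]
    exact w.2
  have sq2 := K901.GeomFibAt.isPullback_hom (K901.EtSch.schFamHom A sq)
    (K903.GeomFib.isPullback_yon (K901.EtSch.schFam A sq) (t := W₁.ι) (IsPullback.of_hasPullback q W₁.ι))
  have hproj2 : RelProj.IsHProjective (pullback.snd q W₁.ι) := Groth.Agent.S9693.result q hproj W₁.ι
  -- the restricted family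
  obtain ⟨f1, f2, f3, f4⟩ := K901.SchFib.facts (objOf x).1.property sq2
  have i1 : Flat (pullback.snd q W₁.ι) := f1
  have i2 : IsProper (pullback.snd q W₁.ι) := f2
  have i3 : LocallyOfFinitePresentation (pullback.snd q W₁.ι) := f3
  have f4' : ∀ x, FlatMor.fibreDimAt (pullback.snd q W₁.ι) x ≤ 1 := fun x => by simpa using f4 x
  let B : PtFamObj S 0 := schFam A sq2
  let B' : (Curves S 0).obj := K899.CurveFam.toCurves B i1 i2 i3 f4'
  let φ : B' ⟶ (objOf x).1 := ObjectProperty.homMk (schFamHom A sq2)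
  let e : B.base ⟶ U := A.ptHom (W₁.ι ≫ g) ≫ eqToHom hA
  have hφ : (Curves S 0).p.IsHomLift e φ := by
    have h5 : (Curves S 0).p.IsHomLift (A.ptHom (W₁.ι ≫ g)) φ := IsHomLift.map (Curves S 0).p φ
    exact (inferInstance : (Curves S 0).p.IsHomLift (A.ptHom (W₁.ι ≫ g) ≫ eqToHom hA) φ)
  have he : e.left = W₁.ι ≫ g ≫ ε.hom.left := rfl
  have heW : Set.range e.left ⊆ (W : Set U.left) := by
    rintro _ ⟨y, rfl⟩
    rw [he, Scheme.Hom.comp_apply]
    exact y.2
  have hQB : Q B' := (chart_iff hQ x W hW (B := B') (e := e) φ).2 heW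
  have hlciB : ∀ y, Synt.IsKoszulAt (pullback.snd q W₁.ι) y := AlgSp.locP_yon_map (hlci B' hQB)
  have hnsB : NsFin (pullback.snd q W₁.ι) := by
    intro Ω _ _ t Y i p hp
    have h6 := K901.GeomFibAt.geomFib_iff.1 (hns B' hQB) Ω t
    exact (K901.GeomFibAt.geomFibAt_toSpFam_iff B t).1 h6 Y i p hp
  have hlfp : LocallyOfFinitePresentation ((W₁.ι ≫ g) ≫ A.base.hom) := by
    have : LocallyOfFinitePresentation A.base.hom := by
      rw [← Over.w ε.hom]
      infer_instance
    infer_instance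
  have hsm : Smooth ((W₁.ι ≫ g) ≫ A.base.hom) := smooth_of_chart H x hx sq2 hproj2 hlciB hnsB
  let c : W₁.toScheme ⟶ W.toScheme := IsOpenImmersion.lift W.ι e.left (by
    rw [Scheme.Opens.range_ι]; exact heW)
  have hc : c ≫ W.ι = e.left := IsOpenImmersion.lift_fac _ _ _
  refine ⟨W₁, c, ⟨v, hvW⟩, ?_, ?_, ?_⟩
  · have : Etale (c ≫ W.ι) := by rw [hc, he]; infer_instance
    exact Etale.of_comp c W.ι
  · apply W.ι.isOpenEmbedding.injective
    rw [← Scheme.Hom.comp_apply, hc, ← hεw]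
    rfl
  · rw [← Category.assoc, hc]
    have h7 : e.left ≫ U.hom = (W₁.ι ≫ g) ≫ A.base.hom := by
      rw [he, Category.assoc, Category.assoc, Category.assoc, Over.w]
    rw [h7]
    exact hsm

/-- **Smoothness of open substacks of the stack of curves** consisting of local complete intersections whose geometric
fibres have finitely many non-smooth points. -/
theorem locQ_smooth [FibCat.IsFibGrpd (Curves S 0).p] (H : SynLift.{u}) (hloc : HLoc S)
    {Q : (Curves S 0).obj → Prop} (hQ : K901.OpenSub.OpenLocus (Curves S 0) Q)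
    (hlci : ∀ A, Q A → IsLCIMor A.obj.f)
    (hns : ∀ A, Q A → GeomFib (fun _ _ _ X' q _ =>
            Set.Finite {x : ↥X' | ¬ ∃ U : X'.Opens, x ∈ U ∧ Smooth (U.ι ≫ q)}) A.obj)
    {U : Over S} (x : FibCat.overCat U ⥤ᵇ Curves S 0) (hx : AlgSt.RepByAlgSpWith (LocP @Smooth) x)
    (hx' : AlgSt.RepByAlgSpWith IsSurjectiveMor x) [LocallyOfFinitePresentation U.hom] :
    AlgSt.LocQ (LocP @Smooth) (FibCat.toSelf (AlgSt.fullSub (Curves S 0) Q)) := by
  obtain ⟨W, hW⟩ := hQ.chart x
  exact K902.SelfChart.locQ_smooth_toSelf (K901.OpenSub.liftChart x W hW)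
    (K901.OpenSub.repByAlgSpWith_liftChart hQ.stable x W hW _ hx)
    (K901.OpenSub.repByAlgSpWith_liftChart hQ.stable x W hW _ hx')
    (smooth_of_openLocus H hloc hQ.isClosedUnderIsomorphisms hlci hns x hx W hW)

end K902.CurvesSmooth
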