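import Groth.Agent.CurvSt.K902.EtSchW
import Groth.Agent.AlgSp.K604.FinCover
import Groth.Agent.S10375
import Groth.Agent.S10033
import Groth.Agent.S16733
import Groth.Agent.CurvSt.K902.CurvesSmooth

/-!
# Families of curves are projective schemes etale locally on the base

* `finCover` : finite surjective scheme covers (S10375 and S10033);
* `etLocSch` : every family of curves is a scheme etale locally on the base;
* `hasSchFibres` : its geometric fibres are schemes;
* `hLoc` : the hypothesis `CurvesSmooth.HLoc S`;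
* `s17304` : the statement S17304 for families with any number of marked points.
-/

set_option autoImplicit false

universe u

open CategoryTheory CategoryTheory.Limits AlgebraicGeometry Opposite AlgSp

namespace K902.EtSchFin

open K595 K595.ChBase CurvSt K902.Slice K902.EtSchRed K902.EtSchW

theorem finCover (W : Scheme.{u}) [QuasiSeparatedSpace W] : FinCover W := by
  intro X h1 h2
  obtain ⟨U, p, hp, hs⟩ := X.2.atlas
  obtain ⟨Y, g, hg, hgs, hloc⟩ := Groth.Agent.S10375.result X h1 h2 p hp hs
  obtain ⟨Y', g', h3, h4, -⟩ := K604.FinCover.exists_finite_fp (fun f => Groth.Agent.S10033.result W f) h1 h2 hp g hg hgs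
    (fun y => by
      obtain ⟨V, c, hy, hc⟩ := hloc y
      exact ⟨V, hy, c, hc⟩)
  exact ⟨Y', g', h3, h4⟩

theorem projEtLoc : ProjEtLoc.{u} := fun f _ _ _ hdim s => Groth.Agent.S16733.result f hdim s

variable {S : Scheme.{u}} {n : ℕ}

theorem etLocSch {A : SpFamObj S n} (hA : IsCurveFam A) : K901.EtSch.EtLocSch A :=
  etLocSch_of (fun W hW => by
    have := hW
    exact etSchCurves (finCover W)) hA

theorem hasSchFibres {A : SpFamObj S n} (hA : IsCurveFam A) : K901.GeomLoc.HasSchFibres A :=
  K901.EtSch.hasSchFibres_of_etLocSch (etLocSch hA)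

theorem hLoc (S : Scheme.{u}) : CurvesSmooth.HLoc S := by
  intro A s
  obtain ⟨T', g, v, X', q, j, -, h1, h2, h3, h4⟩ := exists_hProjective projEtLoc A.property (etLocSch A.property) s
  exact ⟨T', g, v, X', q, j, h1, h2, h3, h4⟩

/-- The statement S17304 (for families with any number of marked points). -/
theorem s17304 {A : SpFamObj S n} (hA : IsCurveFam A) :
    ∃ (ι : Type u) (T : ι → Scheme.{u}) (g : ∀ i, T i ⟶ A.base.left),
      (∀ i, Etale (g i)) ∧ (∀ s : ↥A.base.left, ∃ (i : ι) (v : ↥(T i)), g i v = s) ∧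
      ∀ i, ∃ (X' : Scheme.{u}) (q : X' ⟶ T i) (j : (AlgSp.yon S).obj (A.ptOver (q ≫ g i)) ⟶ A.X),
        IsPullback j ((AlgSp.yon S).map (A.fibHom (g i) q)) A.f ((AlgSp.yon S).map (A.ptHom (g i))) ∧
        RelProj.IsHProjective q :=
  exists_family projEtLoc hA (etLocSch hA)

end K902.EtSchFin
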