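import Groth.Agent.CurvSt.K902.SliceMor
import Groth.Agent.CurvSt.K901.GeomLoc
import Groth.Agent.AlgSp.K597.Proper
import Groth.Agent.AlgSp.K608.Comp
import Groth.Agent.AlgSp.K596.QC2
import Groth.Agent.CurvSt.K901.LociDim

/-!
# Slices of a family of curves

A family of curves `f : X ⟶ h_T` over `S` and `w : W ⟶ T`: the base change of the family to `W` is `j_!` of an algebraic
space `X'` over `W` with `f' : X' ⟶ h_W` flat, proper, of finite presentation, of relative dimension at most one;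
cartesian squares with scheme vertex for `f'` give cartesian squares with scheme vertex for `f`.
-/

set_option autoImplicit false

universe u

open CategoryTheory CategoryTheory.Limits AlgebraicGeometry Opposite AlgSp

namespace K902.Slice

open K595 K595.ChBase CurvSt

section CurveMor

variable {S : Scheme.{u}}

/-- The conditions on the structure morphism of a family of curves. -/
structure CurveMor {X G : Sp S} (f : X ⟶ G) : Prop where
  flat : LocP @Flat f
  proper : IsProperMor f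
  fp : IsFinitePresentationMor f
  dim : RelDimLE 1 f

theorem relDimLE_iff {X G : Sp S} (hX : IsAlgSpace X) (hG : IsAlgSpace G) {f : X ⟶ G}
    (hf : LocP @LocallyOfFiniteType f) (d : ℕ) :
    RelDimLE d f ↔ LocP (K901.SchFib.DimWith fun e => e ≤ (d : WithBot ℕ∞)) f := by
  have h := K901.Loci.forall_hasAtMor_fibreDimAt_iff (fun e => e ≤ (d : WithBot ℕ∞)) hX hG hf
  refine Iff.trans h ⟨fun h1 U V a b k ha hb w => ⟨hf a b k ha hb w, h1 a b k ha hb w⟩,
    fun h1 U V a b k ha hb w => (h1 a b k ha hb w).2⟩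

theorem CurveMor.of_isPullback {X Y Z P : Sp S} (hX : IsAlgSpace X) (hY : IsAlgSpace Y) (hZ : IsAlgSpace Z)
    {f : X ⟶ Y} {g : Z ⟶ Y} {fst : P ⟶ X} {snd : P ⟶ Z} (sq : IsPullback fst snd f g) (h : CurveMor f) :
    CurveMor snd where
  flat := K597.locP_bc K597.etLoc_flat sq hX.hasAtlas hY.hasAtlas hZ.hasAtlas h.flat
  proper := K597.Proper.isProperMor_of_isPullback hX hY hZ sq h.proper
  fp := ⟨K597.locP_bc K597.etLoc_lfp sq hX.hasAtlas hY.hasAtlas hZ.hasAtlas h.fp.1,
    K596.QC.isQuasiCompactMor_of_isPullback sq h.fp.2.1,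
    K595.DiagRel.isQuasiSeparatedMor_isStableUnderBaseChange.of_isPullback sq h.fp.2.2⟩
  dim := by
    have hP : IsAlgSpace P := K608.Comp.isAlgSpace_of_isPullback sq hX hZ hY
    have h1 : LocP @LocallyOfFiniteType snd :=
      K597.locP_bc K597.etLoc_lft sq hX.hasAtlas hY.hasAtlas hZ.hasAtlas h.proper.2.1.1
    rw [relDimLE_iff hP hZ h1]
    exact K597.locP_bc (K901.SchFib.etLoc_dimWith _) sq hX.hasAtlas hY.hasAtlas hZ.hasAtlas
      ((relDimLE_iff hX hY h.proper.2.1.1 1).1 h.dim)

theorem curveMor_of_isCurveFam {n : ℕ} {A : SpFamObj S n} (hA : IsCurveFam A) : CurveMor A.f :=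
  ⟨hA.2.1, hA.2.2.1, hA.2.2.2.1, hA.2.2.2.2⟩

variable {S' : Scheme.{u}} {g : S ⟶ S'}

theorem curveMor_L_iff {F G : Sp S} (f : F ⟶ G) : CurveMor ((L g).map f) ↔ CurveMor f := by
  constructor
  · rintro ⟨h1, h2, h3, h4⟩
    have h2' := (isProperMor_L_iff (g := g) f).1 h2
    exact ⟨(locP_L_iff f).1 h1, h2', (isFinitePresentationMor_L_iff f).1 h3,
      (relDimLE_L_iff 1 f h2'.2.1.1).1 h4⟩
  · rintro ⟨h1, h2, h3, h4⟩
    exact ⟨(locP_L_iff f).2 h1, (isProperMor_L_iff f).2 h2, (isFinitePresentationMor_L_iff f).2 h3,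
      (relDimLE_L_iff 1 f h2.2.1.1).2 h4⟩

end CurveMor

section Terminal

variable {S S' : Scheme.{u}} (g : S ⟶ S')

/-- The sheaf `h_S` on schemes over `S` (the final sheaf). -/
noncomputable abbrev pt1 (S : Scheme.{u}) : Sp S := (yon S).obj (Over.mk (𝟙 S))

/-- The unique morphism to the final sheaf. -/
noncomputable def toPt (F : Sp S) : F ⟶ pt1 S := (K596.QC2.isTerminalYon S).from F

theorem toPt_uniq {F : Sp S} (a : F ⟶ pt1 S) : a = toPt F := (K596.QC2.isTerminalYon S).hom_ext _ _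

theorem yonHom_projHom (T : Over S) :
    yonHom (g := g) T ≫ projHom ((yon S).obj T) = (yon S').map (Slice.can g T) := by
  apply (J S').uliftYonedaEquiv.injective
  rw [GrothendieckTopology.uliftYonedaEquiv_comp, equiv_yonHom,
    GrothendieckTopology.uliftYonedaEquiv_uliftYoneda_map]
  rfl

instance isIso_projHom_pt1 : IsIso (projHom (g := g) (pt1 S)) := by
  have h1 : IsIso (Slice.can g (Over.mk (𝟙 S))) := by
    have : IsIso ((Over.forget S').map (Slice.can g (Over.mk (𝟙 S)))) := by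
      change IsIso (𝟙 S)
      infer_instance
    exact isIso_of_reflects_iso _ (Over.forget S')
  have h2 : IsIso (yonHom (g := g) (Over.mk (𝟙 S)) ≫ projHom ((yon S).obj (Over.mk (𝟙 S)))) := by
    rw [yonHom_projHom]
    infer_instance
  exact IsIso.of_isIso_comp_left (yonHom (g := g) (Over.mk (𝟙 S))) _

end Terminal

section Fam

variable {S : Scheme.{u}} {n : ℕ}

/-- A cartesian square with scheme vertex over a scheme over the base of the family. -/
theorem exists_isPullback_fib (A : SpFamObj S n) {Z T' : Over S} (q : Z ⟶ T') (v : T' ⟶ A.base)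
    {k : (yon S).obj Z ⟶ A.X} (sq : IsPullback k ((yon S).map q) A.f ((yon S).map v)) :
    ∃ j : (yon S).obj (A.ptOver (q.left ≫ v.left)) ⟶ A.X,
      IsPullback j ((yon S).map (A.fibHom v.left q.left)) A.f ((yon S).map (A.ptHom v.left)) := by
  let e : A.ptOver v.left ≅ T' := Over.isoMk (Iso.refl _) (by
    change 𝟙 _ ≫ T'.hom = v.left ≫ A.base.hom
    rw [Category.id_comp, Over.w v])
  let e' : A.ptOver (q.left ≫ v.left) ≅ Z := Over.isoMk (Iso.refl _) (by
    change 𝟙 _ ≫ Z.hom = (q.left ≫ v.left) ≫ A.base.hom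
    rw [Category.id_comp, Category.assoc, Over.w v, Over.w q])
  refine ⟨(yon S).map e'.hom ≫ k, ?_⟩
  refine IsPullback.of_iso sq ((yon S).mapIso e'.symm) (Iso.refl _) ((yon S).mapIso e.symm) (Iso.refl _) ?_ ?_ ?_ ?_
  · simp
  · simp only [Functor.mapIso_hom, Iso.symm_hom, ← Functor.map_comp]
    congr 1
  · simp
  · simp only [Functor.mapIso_hom, Iso.symm_hom, ← Functor.map_comp, Iso.refl_hom, Category.comp_id]
    congr 1

/-- The slice of the base change of a family. -/
theorem exists_slice (A : SpFamObj S n) {W : Scheme.{u}} (w : W ⟶ A.base.left) :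
    ∃ (X' : Sp W) (j : (L (w ≫ A.base.hom)).obj X' ⟶ A.X),
      IsPullback j (projHom (g := w ≫ A.base.hom) X') A.f ((yon S).map (A.ptHom w)) := by
  let B : Over ((yon S).obj (Over.mk (w ≫ A.base.hom))) :=
    Over.mk (pullback.snd A.f ((yon S).map (A.ptHom w)))
  obtain ⟨X', ⟨e⟩⟩ : (toOver (w ≫ A.base.hom)).essImage B := Functor.EssSurj.mem_essImage _ B
  refine ⟨X', e.hom.left ≫ pullback.fst A.f ((yon S).map (A.ptHom w)), ?_⟩
  have h1 : e.hom.left ≫ pullback.snd A.f ((yon S).map (A.ptHom w)) = projHom X' := Over.w e.hom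
  have h2 : e.inv.left ≫ e.hom.left = 𝟙 _ := by rw [← Over.comp_left, e.inv_hom_id, Over.id_left]
  have h3 : ∀ {Q : Sp S} (r : B.left ⟶ Q), r ≫ (Iso.refl Q).hom = e.inv.left ≫ e.hom.left ≫ r := by
    intro Q r
    refine (Category.comp_id r).trans ?_
    exact ((Category.assoc _ _ _).symm.trans ((congrArg (· ≫ r) h2).trans (Category.id_comp r))).symm
  rw [← h1]
  exact IsPullback.of_iso (IsPullback.of_hasPullback A.f ((yon S).map (A.ptHom w)))
    ((Over.forget _).mapIso e.symm) (Iso.refl _) (Iso.refl _) (Iso.refl _)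
    (h3 _) (h3 _) (by simp) (by simp)

variable {A : SpFamObj S n} {W : Scheme.{u}} {w : W ⟶ A.base.left} {X' : Sp W}
  {j : (L (w ≫ A.base.hom)).obj X' ⟶ A.X}

theorem isPullback_toPt (sq : IsPullback j (projHom (g := w ≫ A.base.hom) X') A.f ((yon S).map (A.ptHom w))) :
    IsPullback j ((L (w ≫ A.base.hom)).map (toPt X')) A.f
      (projHom (g := w ≫ A.base.hom) (pt1 W) ≫ (yon S).map (A.ptHom w)) := by
  have h1 : IsPullback (𝟙 _) ((L (w ≫ A.base.hom)).map (toPt X')) (projHom (g := w ≫ A.base.hom) X')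
      (projHom (g := w ≫ A.base.hom) (pt1 W)) :=
    IsPullback.of_horiz_isIso ⟨by rw [Category.id_comp, L_map_projHom]⟩
  have h2 := h1.paste_horiz sq
  rwa [Category.id_comp] at h2

theorem isAlgSpace_slice (hA : IsCurveFam A)
    (sq : IsPullback j (projHom (g := w ≫ A.base.hom) X') A.f ((yon S).map (A.ptHom w))) : IsAlgSpace X' :=
  isAlgSpace_of_L (g := w ≫ A.base.hom)
    (K608.Comp.isAlgSpace_of_isPullback sq hA.1 (IsAlgSpace.yon_obj _) (IsAlgSpace.yon_obj _))

theorem curveMor_slice (hA : IsCurveFam A)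
    (sq : IsPullback j (projHom (g := w ≫ A.base.hom) X') A.f ((yon S).map (A.ptHom w))) : CurveMor (toPt X') := by
  rw [← curveMor_L_iff (g := w ≫ A.base.hom)]
  exact CurveMor.of_isPullback hA.1 (IsAlgSpace.yon_obj _) (isAlgSpace_L (IsAlgSpace.yon_obj _))
    (isPullback_toPt sq) (curveMor_of_isCurveFam hA)

/-- A cartesian square with scheme vertex for the slice gives one for the family. -/
theorem exists_isPullback_of_slice
    (sq : IsPullback j (projHom (g := w ≫ A.base.hom) X') A.f ((yon S).map (A.ptHom w)))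
    {Z T' : Over W} (q : Z ⟶ T') (v : T' ⟶ Over.mk (𝟙 W)) {k : (yon W).obj Z ⟶ X'}
    (sq' : IsPullback k ((yon W).map q) (toPt X') ((yon W).map v)) :
    ∃ j' : (yon S).obj (A.ptOver (q.left ≫ T'.hom ≫ w)) ⟶ A.X,
      IsPullback j' ((yon S).map (A.fibHom (T'.hom ≫ w) q.left)) A.f ((yon S).map (A.ptHom (T'.hom ≫ w))) := by
  have h1 := isPullback_L (g := w ≫ A.base.hom) sq'
  have h2 : IsPullback (yonHom (g := w ≫ A.base.hom) Z) ((yon S).map ((Over.map (w ≫ A.base.hom)).map q))
      ((L (w ≫ A.base.hom)).map ((yon W).map q)) (yonHom T') :=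
    IsPullback.of_horiz_isIso ⟨(yonHom_naturality q).symm⟩
  have h3 := (h2.paste_horiz h1).paste_horiz (isPullback_toPt sq)
  have h5 : yonHom (g := w ≫ A.base.hom) T' ≫ (L (w ≫ A.base.hom)).map ((yon W).map v) ≫
      projHom (g := w ≫ A.base.hom) (pt1 W) = (yon S).map (Slice.can (w ≫ A.base.hom) T') := by
    rw [L_map_projHom, yonHom_projHom]
  have h4 : (yonHom (g := w ≫ A.base.hom) T' ≫ (L (w ≫ A.base.hom)).map ((yon W).map v)) ≫
      projHom (g := w ≫ A.base.hom) (pt1 W) ≫ (yon S).map (A.ptHom w) =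
        (yon S).map (Slice.can (w ≫ A.base.hom) T' ≫ A.ptHom w) := by
    rw [Functor.map_comp, ← h5]
    simp only [Category.assoc]
  rw [h4] at h3
  exact exists_isPullback_fib A ((Over.map (w ≫ A.base.hom)).map q) (Slice.can (w ≫ A.base.hom) T' ≫ A.ptHom w) h3

end Fam

end K902.Slice
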