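import Groth.Agent.CurvSt.K901.Loci
import Groth.Agent.CurvSt.K899.LociAdapt
import Groth.Agent.AlgSp.K616.DimInv
import Groth.Agent.FibDim.K582.CMConst

/-!
# Loci of morphisms with a pointwise property and relative dimension exactly `d`

For `hR : K901.Loci.LocusProp R` with `R f x → IsCMAt f x`, the pointwise property
`R f x ∧ fibreDimAt f x = d` is again a `LocusProp`, and on a family of curves `LocP` of it is `LocP R` together with
the relative dimension being `d` at every point of the total space.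
-/

set_option autoImplicit false
universe u

open AlgebraicGeometry CategoryTheory CategoryTheory.Limits

namespace K902.LociDim

open K901.Loci

variable {R : PtProp.{u}}

/-- The pointwise property `R` together with relative dimension `d`. -/
def AndDim (R : PtProp.{u}) (d : WithBot ℕ∞) : PtProp.{u} := fun _ _ f x => R f x ∧ FlatMor.fibreDimAt f x = d

theorem locusProp_andDim (hR : LocusProp R)
    (hcm : ∀ ⦃X Y : Scheme.{u}⦄ (f : X ⟶ Y) (x : X), R f x → MoreMor.IsCMAt f x) (d : WithBot ℕ∞) :
    LocusProp (AndDim R d) where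
  isOpen X Y f _ _ := by
    let U : X.Opens := ⟨{x | R f x}, hR.isOpen f⟩
    have hU : ∀ x : U, R (U.ι ≫ f) x := fun x => (hR.source U.ι f x).2 x.2
    have h1 := K582.CMConst.isLocallyConstant (U.ι ≫ f) fun x => hcm _ _ (hU x)
    have h2 : IsOpen {x : U | FlatMor.fibreDimAt (U.ι ≫ f) x = d} := h1.isOpen_fiber d
    have h3 : {x : X | AndDim R d f x} = U.ι '' {x : U | FlatMor.fibreDimAt (U.ι ≫ f) x = d} := by
      ext x
      constructor
      · rintro ⟨hx, hd⟩
        refine ⟨⟨x, hx⟩, ?_, rfl⟩
        have := K616.DimInv.fibreDimAt_comp_of_etale U.ι f ⟨x, hx⟩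
        exact this.trans hd
      · rintro ⟨x, hx, rfl⟩
        refine ⟨x.2, ?_⟩
        have := K616.DimInv.fibreDimAt_comp_of_etale U.ι f x
        exact this.symm.trans hx
    rw [h3]
    exact U.ι.isOpenEmbedding.isOpenMap _ h2
  baseChange X Y X' Y' f f' g' g _ _ hsq x' := by
    refine and_congr (hR.baseChange f f' g' g hsq x') ?_
    rw [Groth.Agent.Ega4fib.H172.FibDimBC.fibreDimAt_of_isPullback hsq x']
  source U X Y a f _ _ _ u := by
    refine and_congr (hR.source a f u) ?_
    rw [K616.DimInv.fibreDimAt_comp_of_etale a f u]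

/-- `LocP` of the conjunction on a family of curves. -/
theorem locP_andDim_iff (S : Scheme.{u}) (n : ℕ) (A : (CurvSt.Curves S n).obj) (d : WithBot ℕ∞) :
    AlgSp.LocP (fun _ _ f => ∀ x, AndDim R d f x) A.obj.f ↔
      AlgSp.LocP (fun _ _ f => ∀ x, R f x) A.obj.f ∧
        ∀ x : AlgSp.Points A.obj.X,
          AlgSp.HasAtMor (fun _ _ h u => FlatMor.fibreDimAt h u = d) A.obj.f x := by
  obtain ⟨hX, hfl, -, hfp, -⟩ := A.property
  have hlft : AlgSp.LocP @LocallyOfFiniteType A.obj.f := by
    intro U V a b h ha hb hab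
    have : LocallyOfFinitePresentation h.left := hfp.1 a b h ha hb hab
    infer_instance
  constructor
  · intro h
    refine ⟨fun U V a b i ha hb hab x => (h a b i ha hb hab x).1, fun x => ?_⟩
    obtain ⟨U₀, a₀, u₀, ha₀, hu₀⟩ := K616.Inv.exists_chart hX x
    obtain ⟨U, a, i, u, ha, hab, hu, -⟩ := K616.Inv.exists_diagram_over hX A.obj.f
      (𝟙 ((AlgSp.yon S).obj A.obj.base)) (by
        rw [← (AlgSp.yon S).map_id]
        exact (AlgSp.repWith_yon_map_iff _ _).2 (by rw [Over.id_left]; infer_instance)) x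
      ((AlgSp.Points.schemeHomeo A.obj.base).symm (AlgSp.Points.map A.obj.f x)) (by
        exact (AlgSp.Points.schemeHomeo A.obj.base).apply_symm_apply _)
    subst hu
    rw [K616.Inv.hasAtMor_iff (K616.DimInv.etInvOn_fibreDimAt fun t => t = d) hlft a _ i ha
      (by
        rw [← (AlgSp.yon S).map_id]
        exact (AlgSp.repWith_yon_map_iff _ _).2 (by rw [Over.id_left]; infer_instance)) hab u]
    exact (h a _ i ha (by
        rw [← (AlgSp.yon S).map_id]
        exact (AlgSp.repWith_yon_map_iff _ _).2 (by rw [Over.id_left]; infer_instance)) hab u).2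
  · rintro ⟨h1, h2⟩ U V a b i ha hb hab x
    refine ⟨h1 a b i ha hb hab x, ?_⟩
    exact (K616.Inv.hasAtMor_iff (K616.DimInv.etInvOn_fibreDimAt fun t => t = d) hlft a b i ha hb hab x).1
      (h2 _)

/-- The open substack of the stack of curves cut out by `R` and relative dimension `d`. -/
theorem isOpenSubstack (hR : LocusProp R)
    (hcm : ∀ ⦃X Y : Scheme.{u}⦄ (f : X ⟶ Y) (x : X), R f x → MoreMor.IsCMAt f x) (d : WithBot ℕ∞)
    (S : Scheme.{u}) (n : ℕ) (hC : AlgSt.IsAlgStack Scheme.fppfPrecoverage (CurvSt.Curves S n)) :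
    AlgSt.IsOpenSubstack (CurvSt.Curves S n) (fun A => AlgSp.LocP (fun _ _ f => ∀ x, R f x) A.obj.f ∧
        ∀ x : AlgSp.Points A.obj.X,
          AlgSp.HasAtMor (fun _ _ h u => FlatMor.fibreDimAt h u = d) A.obj.f x)
      Scheme.fppfPrecoverage := by
  have h := K899.LociAdapt.isOpenSubstack (locusProp_andDim hR hcm d) S n hC
  have e : (fun A : (CurvSt.Curves S n).obj => AlgSp.LocP (fun _ _ f => ∀ x, AndDim R d f x) A.obj.f) = _ :=
    funext fun A => propext (locP_andDim_iff S n A d)
  rwa [e] at h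

end K902.LociDim
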