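import Groth.Agent.CurvSt.K902.FibSch
import Groth.Agent.CurvSt.K901.EtSch
import Groth.Prelude.Def_RelProj

/-!
# Families of curves are etale locally on the base schemes: reduction to spaces over affine schemes
-/

set_option autoImplicit false

universe u

open CategoryTheory CategoryTheory.Limits AlgebraicGeometry Opposite AlgSp

namespace K902.EtSchRed

open K595 K595.ChBase CurvSt K902.Slice

/-- Curves over `W` (as algebraic spaces) are schemes etale locally on `W`. -/
def EtSchCurves (W : Scheme.{u}) : Prop :=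
  ∀ X : Sp W, IsAlgSpace X → CurveMor (toPt X) → ∀ w : W, ∃ (T : Over W) (v : T.left), Etale T.hom ∧ T.hom v = w ∧
    (pullback (toPt X) ((yon W).map (Over.mkIdTerminal.from T))).obj.IsRepresentable

theorem exists_square {W : Scheme.{u}} {X : Sp W} {T : Over W}
    (h : (pullback (toPt X) ((yon W).map (Over.mkIdTerminal.from T))).obj.IsRepresentable) :
    ∃ (Z : Over W) (q : Z ⟶ T) (k : (yon W).obj Z ⟶ X),
      IsPullback k ((yon W).map q) (toPt X) ((yon W).map (Over.mkIdTerminal.from T)) := by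
  obtain ⟨Z, ⟨r⟩⟩ := h
  let e := isoOfRepresentableBy r
  obtain ⟨q, hq⟩ := (yon W).map_surjective (e.hom ≫ pullback.snd _ _)
  refine ⟨Z, q, e.hom ≫ pullback.fst _ _, ?_⟩
  rw [hq]
  exact IsPullback.of_iso (IsPullback.of_hasPullback _ _) e.symm (Iso.refl _) (Iso.refl _) (Iso.refl _)
    (by simp) (by simp) (by simp) (by simp)

variable {S : Scheme.{u}} {n : ℕ}

theorem etLocSch_of (H : ∀ W : Scheme.{u}, IsAffine W → EtSchCurves W) {A : SpFamObj S n} (hA : IsCurveFam A) :
    K901.EtSch.EtLocSch A := by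
  intro s
  obtain ⟨W, hW, hs, -⟩ := exists_isAffineOpen_mem_and_subset (x := s) (U := ⊤) trivial
  obtain ⟨X', j, sq⟩ := exists_slice A W.ι
  obtain ⟨T, v, hT, hv, hr⟩ := H W hW X' (isAlgSpace_slice hA sq) (curveMor_slice hA sq) ⟨s, hs⟩
  obtain ⟨Z, q, k, sq'⟩ := exists_square hr
  obtain ⟨j', sq''⟩ := exists_isPullback_of_slice sq q (Over.mkIdTerminal.from T) sq'
  refine ⟨T.left, T.hom ≫ W.ι, v, Z.left, q.left, j', ?_, ?_, sq''⟩
  · infer_instance
  · rw [Scheme.Hom.comp_apply, hv]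
    rfl

/-- The statement of projectivity etale locally on the base for scheme families (S16733). -/
def ProjEtLoc : Prop :=
  ∀ {C S : Scheme.{u}} (f : C ⟶ S) [Flat f] [IsProper f] [LocallyOfFinitePresentation f]
    (_ : ∀ s : S, topologicalKrullDim ↥(f.fiber s) ≤ 1) (s : S),
    ∃ (S' : Scheme.{u}) (e : S' ⟶ S), IsAffine S' ∧ Etale e ∧ s ∈ Set.range e.base ∧
      RelProj.IsHProjective (pullback.snd f e)

/-- Etale locally on the base a family of curves is an H-projective scheme. -/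
theorem exists_hProjective (H2 : ProjEtLoc.{u}) {A : SpFamObj S n} (hA : IsCurveFam A) (hE : K901.EtSch.EtLocSch A)
    (s : A.base.left) :
    ∃ (T' : Scheme.{u}) (g : T' ⟶ A.base.left) (v : T') (X' : Scheme.{u}) (q : X' ⟶ T')
      (j : (yon S).obj (A.ptOver (q ≫ g)) ⟶ A.X), IsAffine T' ∧ Etale g ∧ g v = s ∧
      IsPullback j ((yon S).map (A.fibHom g q)) A.f ((yon S).map (A.ptHom g)) ∧ RelProj.IsHProjective q := by
  obtain ⟨T', g, v, X', q, j, hg, hv, sq⟩ := hE s
  obtain ⟨f1, f2, f3, f4⟩ := K901.SchFib.facts hA sq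
  have i1 : Flat q := f1
  have i2 : IsProper q := f2
  have i3 : LocallyOfFinitePresentation q := f3
  obtain ⟨S', e, h1, h2, ⟨v', hv'⟩, h3⟩ := H2 q
    (fun y => (K639.Dim.dim_fiber_le_iff q y _).2 fun u _ => f4 u) v
  have sq2 := K901.GeomFibAt.isPullback_hom (K901.EtSch.schFamHom A sq)
    (K903.GeomFib.isPullback_yon (K901.EtSch.schFam A sq) (t := e) (IsPullback.of_hasPullback q e))
  refine ⟨S', e ≫ g, v', pullback q e, pullback.snd q e, _, h1, inferInstance, ?_, sq2, h3⟩
  rw [Scheme.Hom.comp_apply, hv', hv]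

/-- The statement S17304 (for families with any number of marked points). -/
theorem exists_family (H2 : ProjEtLoc.{u}) {A : SpFamObj S n} (hA : IsCurveFam A) (hE : K901.EtSch.EtLocSch A) :
    ∃ (ι : Type u) (T : ι → Scheme.{u}) (g : ∀ i, T i ⟶ A.base.left),
      (∀ i, Etale (g i)) ∧ (∀ s : ↥A.base.left, ∃ (i : ι) (v : ↥(T i)), g i v = s) ∧
      ∀ i, ∃ (X' : Scheme.{u}) (q : X' ⟶ T i) (j : (AlgSp.yon S).obj (A.ptOver (q ≫ g i)) ⟶ A.X),
        IsPullback j ((AlgSp.yon S).map (A.fibHom (g i) q)) A.f ((AlgSp.yon S).map (A.ptHom (g i))) ∧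
        RelProj.IsHProjective q := by
  choose T' g v X' q j h1 h2 h3 h4 h5 using exists_hProjective H2 hA hE
  exact ⟨A.base.left, T', g, h2, fun s => ⟨s, v s, h3 s⟩, fun s => ⟨X' s, q s, j s, h4 s, h5 s⟩⟩

end K902.EtSchRed
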