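import Groth.Agent.CurvSt.K902.SchSet
import Groth.Agent.CurvSt.K901.SchPre
import Groth.Agent.CurvSt.K901.SchRed
import Groth.Agent.CurvSt.K899.NodalFib
import Groth.Agent.CurvSt.K310.ExistsCurve

/-!
# Prestable curves and reduced connected curves: open loci, genus, existence

* `schOpen_nodConn`, `schOpen_redConn`;
* `spIsPrestable_iff`, `hasOpenLocus_prestable`, `hasOpenLocus_prestable_genus`;
* `exists_fiber_prestable` : prestable families of any genus over algebraically closed fields;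
* `s17302`, `s17188`, `s17189`.
-/

set_option autoImplicit false

universe u

open CategoryTheory CategoryTheory.Limits AlgebraicGeometry

namespace K902.SchInst

open CurvSt AlgSp K901.GeomFibAt K901.GeomLoc K901.EtSch K901.Loci K901.SchLoc K901.SchPre K901.SchRed K902.SchSet
  K899.OpenCrit K901.LocusOpen
open Groth.Agent

/-- Nodal and connected. -/
abbrev NodConn : FProp.{u} := fun _ _ _ X' q => (∀ x, NodalAt q x) ∧ ConnectedSpace X'

/-- Reduced, connected, of dimension one. -/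
abbrev RedConn : FProp.{u} := fun _ _ _ X' _ => IsReduced X' ∧ ConnectedSpace X' ∧ topologicalKrullDim X' = 1

theorem schOpen_nodConn : SchOpen NodConn.{u} := fun _ _ f _ _ _ =>
  ⟨ConSet f, isOpen_conSet f, fun _ _ _ _ _ _ _ sq => conSet_iff f sq⟩

theorem schOpen_redConn : SchOpen RedConn.{u} := fun _ _ f _ _ _ =>
  ⟨RedConnSet f, isOpen_redConnSet f, fun _ _ _ _ _ _ _ sq => redConn_iff (n := 0) f sq fun j => j.elim0⟩

theorem hOne_nodConn (Ω : Type u) [Field Ω] [IsAlgClosed Ω] (X : Scheme.{u}) (q : X ⟶ Spec (CommRingCat.of Ω))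
    (hq : IsProper q) (h : NodConn Ω X q) : HOne Ω X q := by
  let i1 : X.Over (Spec (CommRingCat.of Ω)) := ⟨q⟩
  have hq' : IsProper (X ↘ Spec (CommRingCat.of Ω)) := hq
  have hlfp : LocallyOfFinitePresentation q := LocallyOfFinitePresentation.iff_locallyOfFiniteType.2 inferInstance
  have h3 := (nodal_field_iff (K := Ω) q).2 ((isNodalFamily_iff q).2 h.1)
  have := h.2
  have h4 : GeometricallyConnected (X ↘ Spec (CommRingCat.of Ω)) :=
    Fdesc.GeomAlgClosed.geometricallyConnected_of_connectedSpace _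
  exact CurvesB.NodalFibreH.nodal_cohomology Ω X h3.2 h3.1

theorem hOne_redConn (Ω : Type u) [Field Ω] [IsAlgClosed Ω] (X : Scheme.{u}) (q : X ⟶ Spec (CommRingCat.of Ω))
    (hq : IsProper q) (h : RedConn Ω X q) : HOne Ω X q := by
  let i1 : X.Over (Spec (CommRingCat.of Ω)) := ⟨q⟩
  obtain ⟨h1, h2, h3⟩ := h
  have hq' : IsProper (X ↘ Spec (CommRingCat.of Ω)) := hq
  have h4 : GeometricallyConnected (X ↘ Spec (CommRingCat.of Ω)) :=
    Fdesc.GeomAlgClosed.geometricallyConnected_of_connectedSpace _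
  have h7 : GeometricallyReduced (X ↘ Spec (CommRingCat.of Ω)) := by
    have h8 : ∀ x, GeomRed q x := (geomRed_iff_isReduced q).2 h1
    refine ⟨fun K _ y Z fst snd hZ => ?_⟩
    have h1 : ∀ z : Z, _root_.IsReduced (Z.presheaf.stalk z) := fun z => h8 (fst z) K Z _ _ _ hZ z rfl
    exact isReduced_of_isReduced_stalk Z
  have := CurvesB.NodalFibreH.isNoetherian_of_isProper Ω X q
  exact ⟨Groth.Agent.S1536.result Ω X, fun j hj =>
    Groth.Agent.S0458.result 1 h3.le (Coh.toAb (Coh.structureModule X)) j (by omega)⟩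

section Fam

variable {S : Scheme.{u}} {n : ℕ}

theorem locP_nodal_iff {A : SpFamObj S n} (hA : IsCurveFam A) :
    LocP nodalFam A.f ↔ GeomFib (fun _ _ _ _ q _ => ∀ x, NodalAt q x) A := by
  have h1 : (nodalFam : MorphismProperty Scheme.{u}) = Everywhere NodalAt := by
    funext X Y f
    exact propext (isNodalFamily_iff f)
  rw [h1]
  exact (geomFib_iff_locP locusProp_nodal A hA (EtSchFin.hasSchFibres hA)).symm

theorem spIsPrestable_iff {A : SpFamObj S n} (hA : IsCurveFam A) :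
    SpIsPrestable A ↔ GeomFib (fun Ω _ _ X' q _ => NodConn Ω X' q) A := by
  rw [SpIsPrestable, locP_nodal_iff hA]
  exact ⟨fun h Ω _ _ t X' q i sq => ⟨h.1 Ω t X' q i sq, h.2 Ω t X' q i sq⟩,
    fun h => ⟨fun Ω _ _ t X' q i sq => (h Ω t X' q i sq).1, fun Ω _ _ t X' q i sq => (h Ω t X' q i sq).2⟩⟩

theorem geomFib_and_iff {P Q : FibProp.{u} n} {A : SpFamObj S n} :
    GeomFib (fun Ω _ _ X' q m => P Ω X' q m ∧ Q Ω X' q m) A ↔ GeomFib P A ∧ GeomFib Q A :=
  ⟨fun h => ⟨fun Ω _ _ t X' q i sq => (h Ω t X' q i sq).1, fun Ω _ _ t X' q i sq => (h Ω t X' q i sq).2⟩,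
    fun h Ω _ _ t X' q i sq => ⟨h.1 Ω t X' q i sq, h.2 Ω t X' q i sq⟩⟩

theorem spIsPrestable_and_genus_iff {A : SpFamObj S n} (hA : IsCurveFam A) (g : ℕ) :
    SpIsPrestable A ∧ SpHasGenus A g ↔
      GeomFib (fun Ω _ _ X' q _ => NodConn Ω X' q ∧ @Curv2.genus Ω _ X' ⟨q⟩ = g) A := by
  rw [spIsPrestable_iff hA]
  exact geomFib_and_iff.symm

theorem hasOpenLocus_prestable (S : Scheme.{u}) (n : ℕ) :
    HasOpenLocus (𝒳 := Curves S n) (fun A => SpIsPrestable A.obj) := by
  have h : (fun A : (Curves S n).obj => SpIsPrestable A.obj) =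
      fun A => GeomFib (fun Ω _ _ X' q _ => NodConn Ω X' q) A.obj := by
    funext A
    exact propext (spIsPrestable_iff A.property)
  rw [h]
  exact schOpen_nodConn.hasOpenLocus S n

theorem hasOpenLocus_prestable_genus (S : Scheme.{u}) (n g : ℕ) :
    HasOpenLocus (𝒳 := Curves S n) (fun A => SpIsPrestable A.obj ∧ SpHasGenus A.obj g) := by
  have h : (fun A : (Curves S n).obj => SpIsPrestable A.obj ∧ SpHasGenus A.obj g) =
      fun A => GeomFib (fun Ω _ _ X' q _ => NodConn Ω X' q ∧ @Curv2.genus Ω _ X' ⟨q⟩ = g) A.obj := by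
    funext A
    exact propext (spIsPrestable_and_genus_iff A.property g)
  rw [h]
  exact (schOpen_nodConn.genus hOne_nodConn g).hasOpenLocus S n

theorem hasOpenLocus_nodal (S : Scheme.{u}) (n : ℕ) :
    HasOpenLocus (𝒳 := Curves S n) (fun A => LocP nodalFam A.obj.f) := by
  have h1 : (nodalFam : MorphismProperty Scheme.{u}) = Everywhere NodalAt := by
    funext X Y f
    exact propext (isNodalFamily_iff f)
  rw [h1]
  exact hasOpenLocus_of_iff locusProp_nodal fun _ => Iff.rfl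

/-- All geometric fibres of a proper family over an algebraically closed field satisfy `P` if the family does. -/
theorem geomFib_of_field {P : FProp.{u}} (hP : SchOpen P) {Ω : Type u} [Field Ω] [IsAlgClosed Ω]
    (B : PtFamObj S 0) (q : B.C ⟶ Spec (CommRingCat.of Ω)) (e : B.base.left ⟶ Spec (CommRingCat.of Ω)) (he : IsIso e)
    (hq : B.f ≫ e = q) (hp : IsProper q) (h : P Ω B.C q) : GeomFib (fun Ω _ _ X' q _ => P Ω X' q) ((toSpFam S 0).obj B) := by
  refine geomFib_iff.2 fun Ω' _ _ t => (geomFibAt_toSpFam_iff B t).2 fun X' i q' sq => ?_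
  have sq' : IsPullback i q' q (t ≫ e) := by
    rw [← hq]
    exact IsPullback.of_iso sq (Iso.refl _) (Iso.refl _) (Iso.refl _) (asIso e) (by simp) (by simp) (by simp) rfl
  exact (hP.iff_of_isPullback sq').2 h

/-- A smooth proper curve over an algebraically closed field is a connected nodal family. -/
theorem nodConn_of_smooth {Ω : Type u} [Field Ω] [IsAlgClosed Ω] {X : Scheme.{u}} (q : X ⟶ Spec (CommRingCat.of Ω))
    (h : Curve.IsSmoothProperCurve Ω X q) : NodConn Ω X q := by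
  obtain ⟨h1, h2, h3, h4⟩ := h
  refine ⟨(isNodalFamily_iff q).1 ((nodal_field_iff q).1 ⟨fun x _ => Or.inl ⟨⊤, trivial, ?_⟩, fun Z hZ => ?_⟩), ?_⟩
  · change Smooth ((⊤ : X.Opens).ι ≫ q)
    infer_instance
  · have h5 : Z = Set.univ := by
      rw [irreducibleComponents_eq_singleton] at hZ
      exact hZ
    rw [h5, ← h4]
    exact IsHomeomorph.topologicalKrullDim_eq _ (Homeomorph.Set.univ X).isHomeomorph
  · infer_instance

theorem exists_fiber (g : ℕ) {Ω : Type u} [Field Ω] [IsAlgClosed Ω] (t : Spec (CommRingCat.of Ω) ⟶ S)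
    (Q : (Curves S 0).obj → Prop)
    (hQ : ∀ A : (Curves S 0).obj, SpIsPrestable A.obj ∧ SpHasGenus A.obj g → Q A) :
    Nonempty ((AlgSt.fullSub (Curves S 0) Q).p.Fiber (Over.mk t)) := by
  obtain ⟨X, q, h1, h2⟩ := K310.ExistsCurve.exists_isCurveOfGenus (k := Ω) g
  have hn := nodConn_of_smooth q h1
  have hp : IsProper q := h1.1
  have hid : IsPullback (𝟙 X) q q (𝟙 _) := IsPullback.of_horiz_isIso ⟨by simp⟩
  have hg : @Curv2.genus Ω _ X ⟨q⟩ = g := (h2.2.2.2 Ω (𝟙 _) X (𝟙 X) q hid).2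
  refine K899.NodalFib.nonempty_fiber (Over.mk t) q hp ((isNodalFamily_iff q).2 hn.1) _ fun h => hQ _ ?_
  refine (spIsPrestable_and_genus_iff h g).2 ?_
  exact geomFib_of_field (schOpen_nodConn.genus hOne_nodConn g) (K899.NodalFib.fam (Over.mk t) q) q
    (𝟙 (Spec (CommRingCat.of Ω))) (inferInstanceAs (IsIso (𝟙 (Spec (CommRingCat.of Ω))))) (Category.comp_id _) hp ⟨hn, hg⟩

end Fam

section Rows

variable (S : Scheme.{u}) (hC : AlgSt.IsAlgStack Scheme.fppfPrecoverage (CurvSt.Curves S 0))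

include hC

theorem s17188 :
    AlgSt.IsOpenSubstack (CurvSt.Curves S 0) (fun A => CurvSt.SpIsPrestable A.obj) Scheme.fppfPrecoverage ∧
      ∀ (Ω : Type u) [Field Ω] [IsAlgClosed Ω] (t : Spec (CommRingCat.of Ω) ⟶ S),
        Nonempty ((AlgSt.fullSub (CurvSt.Curves S 0) (fun A => CurvSt.SpIsPrestable A.obj)).p.Fiber (Over.mk t)) :=
  ⟨K899.OpenCrit.isOpenSubstack hC (hasOpenLocus_prestable S 0), fun _ _ _ t => exists_fiber 0 t _ fun _ h => h.1⟩

theorem s17189 (g : ℕ) :
    AlgSt.IsOpenSubstack (CurvSt.Curves S 0) (fun A => CurvSt.SpIsPrestable A.obj ∧ CurvSt.SpHasGenus A.obj g)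
      Scheme.fppfPrecoverage ∧
      ∀ (Ω : Type u) [Field Ω] [IsAlgClosed Ω] (t : Spec (CommRingCat.of Ω) ⟶ S),
        Nonempty ((AlgSt.fullSub (CurvSt.Curves S 0)
          (fun A => CurvSt.SpIsPrestable A.obj ∧ CurvSt.SpHasGenus A.obj g)).p.Fiber (Over.mk t)) :=
  ⟨K899.OpenCrit.isOpenSubstack hC (hasOpenLocus_prestable_genus S 0 g), fun _ _ _ t => exists_fiber g t _ fun _ h => h⟩

theorem s17302 : (∀ g : ℕ, AlgSt.IsOpenSubstack (CurvSt.Curves S 0) (fun A => CurvSt.GeomFib (fun _ _ _ X' _ _ =>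
            IsReduced X' ∧ ConnectedSpace ↥X' ∧ topologicalKrullDim ↥X' = 1) A.obj ∧ CurvSt.SpHasGenus A.obj g)
              Scheme.fppfPrecoverage) ∧
      ∀ (A : (CurvSt.Curves S 0).obj), CurvSt.GeomFib (fun _ _ _ X' _ _ =>
            IsReduced X' ∧ ConnectedSpace ↥X' ∧ topologicalKrullDim ↥X' = 1) A.obj →
        ConnectedSpace ↥A.obj.base.left → ∃ g : ℕ, CurvSt.SpHasGenus A.obj g := by
  refine ⟨fun g => K899.OpenCrit.isOpenSubstack hC ?_, fun A h hc =>
    schOpen_redConn.exists_genus hOne_redConn A.property h hc⟩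
  have h : (fun A : (Curves S 0).obj => CurvSt.GeomFib (fun _ _ _ X' _ _ =>
            IsReduced X' ∧ ConnectedSpace ↥X' ∧ topologicalKrullDim ↥X' = 1) A.obj ∧ CurvSt.SpHasGenus A.obj g) =
      fun A => GeomFib (fun Ω _ _ X' q _ => RedConn Ω X' q ∧ @Curv2.genus Ω _ X' ⟨q⟩ = g) A.obj := by
    funext A
    exact propext geomFib_and_iff.symm
  rw [h]
  exact (schOpen_redConn.genus hOne_redConn g).hasOpenLocus S 0

end Rows

end K902.SchInst
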