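import Groth.Agent.Flat2C.NagataCore
import Groth.Agent.Flat2C.GlueSep
import Groth.Agent.Ega4dA.LocalIsoAux
import Groth.Agent.S1318
import Groth.Agent.S1321
import Groth.Agent.S1488
import Groth.Agent.S0440
import Groth.Agent.AlgSp.K635.InfLift
import Groth.Agent.SGA3.K204.ArtThick

/-!
# Gluing flat lifts over two opens meeting in an affine smooth open

`HasFlatLift i f₀`: `f₀ : X₀ ⟶ S₀` is the base change along `i : S₀ ⟶ S` of a flat `f : X ⟶ S`.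
`hasFlatLift_of_two`: for a first order thickening `i`, if `X₀ = U₁ ∪ U₂` with `U₁`, `U₂` liftable and `U₁ ∩ U₂` affine and
smooth over `S₀`, then `f₀` has a flat lift.
-/

set_option autoImplicit false

universe u

open CategoryTheory CategoryTheory.Limits AlgebraicGeometry

namespace K902.LiftGlue

section glue

variable {S₀ S X₀ X U₁ U₂ W Y₁ Y₂ V : Scheme.{u}}

/-- A morphism of two glued schemes which is a base change of `i` on both charts is a base change of `i`. -/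
theorem isPullback_glue {i : S₀ ⟶ S} [IsClosedImmersion i] {u₁ : U₁ ⟶ X₀} {u₂ : U₂ ⟶ X₀} [IsOpenImmersion u₁]
    [IsOpenImmersion u₂] (hu : ∀ x, x ∈ Set.range u₁ ∨ x ∈ Set.range u₂) {w₁ : W ⟶ U₁} {w₂ : W ⟶ U₂}
    (hw : w₁ ≫ u₁ = w₂ ≫ u₂) {o₁ : Y₁ ⟶ X} {o₂ : Y₂ ⟶ X} [IsOpenImmersion o₁] [IsOpenImmersion o₂]
    (ho : ∀ x, x ∈ Set.range o₁ ∨ x ∈ Set.range o₂) {v₁ : V ⟶ Y₁} {v₂ : V ⟶ Y₂} (hV : IsPullback v₁ v₂ o₁ o₂)
    {f₀ : X₀ ⟶ S₀} {f : X ⟶ S} {j : X₀ ⟶ X} (hj : j ≫ f = f₀ ≫ i) {j₁ : U₁ ⟶ Y₁} {j₂ : U₂ ⟶ Y₂} {jW : W ⟶ V}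
    (h1 : u₁ ≫ j = j₁ ≫ o₁) (h2 : u₂ ≫ j = j₂ ≫ o₂) (hW1 : jW ≫ v₁ = w₁ ≫ j₁) (hW2 : IsPullback jW w₂ v₂ j₂)
    (sq1 : IsPullback j₁ (u₁ ≫ f₀) (o₁ ≫ f) i) (sq2 : IsPullback j₂ (u₂ ≫ f₀) (o₂ ≫ f) i) :
    IsPullback j f₀ f i := by
  let l : X₀ ⟶ pullback f i := pullback.lift j f₀ hj
  have hl1 : l ≫ pullback.fst f i = j := pullback.lift_fst _ _ _
  have hl2 : l ≫ pullback.snd f i = f₀ := pullback.lift_snd _ _ _
  have hi1 : IsClosedImmersion j₁ := MorphismProperty.of_isPullback sq1.flip ‹_›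
  have hi2 : IsClosedImmersion j₂ := MorphismProperty.of_isPullback sq2.flip ‹_›
  -- the charts
  have key : ∀ {U Y : Scheme.{u}} (u : U ⟶ X₀) (o : Y ⟶ X) [IsOpenImmersion o] (jU : U ⟶ Y), u ≫ j = jU ≫ o →
      IsPullback jU (u ≫ f₀) (o ≫ f) i → IsPullback jU (u ≫ l) o (pullback.fst f i) := by
    intro U Y u o _ jU h sq
    refine IsPullback.of_bot ?_ (by rw [Category.assoc, hl1, h]) (IsPullback.of_hasPullback f i)
    rw [Category.assoc, hl2]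
    exact sq
  have k1 := key u₁ o₁ j₁ h1 sq1
  have k2 := key u₂ o₂ j₂ h2 sq2
  have g1 : IsOpenImmersion (u₁ ≫ l) := MorphismProperty.of_isPullback k1 ‹_›
  have g2 : IsOpenImmersion (u₂ ≫ l) := MorphismProperty.of_isPullback k2 ‹_›
  have hloc : IsLocalIso l := by
    refine ⟨fun x => ?_⟩
    rcases hu x with ⟨y, rfl⟩ | ⟨y, rfl⟩
    · refine ⟨u₁.opensRange, ⟨y, rfl⟩, ?_⟩
      have : u₁.opensRange.ι ≫ l = u₁.isoOpensRange.inv ≫ u₁ ≫ l := by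
        rw [← Category.assoc, Scheme.Hom.isoOpensRange_inv_comp]
      rw [this]
      infer_instance
    · refine ⟨u₂.opensRange, ⟨y, rfl⟩, ?_⟩
      have : u₂.opensRange.ι ≫ l = u₂.isoOpensRange.inv ≫ u₂ ≫ l := by
        rw [← Category.assoc, Scheme.Hom.isoOpensRange_inv_comp]
      rw [this]
      infer_instance
  have hc : ∀ (a : U₁) (b : U₂), j (u₁ a) = j (u₂ b) → u₁ a = u₂ b := by
    intro a b hab
    rw [← Scheme.Hom.comp_apply, ← Scheme.Hom.comp_apply, h1, h2, Scheme.Hom.comp_apply, Scheme.Hom.comp_apply] at hab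
    obtain ⟨v, hv1, hv2⟩ := Scheme.exists_preimage_of_isPullback hV _ _ hab
    obtain ⟨w, hw1, hw2⟩ := Scheme.exists_preimage_of_isPullback hW2 v b hv2
    have h3 : w₁ w = a := by
      apply j₁.isClosedEmbedding.injective
      rw [← Scheme.Hom.comp_apply, ← hW1, Scheme.Hom.comp_apply]
      exact (congrArg v₁ hw1).trans hv1
    rw [← h3, ← Scheme.Hom.comp_apply, hw, Scheme.Hom.comp_apply]
    exact congrArg u₂ hw2
  have hinj : Function.Injective l := by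
    intro x y hxy
    have hj' : j x = j y := by rw [← hl1, Scheme.Hom.comp_apply, hxy, Scheme.Hom.comp_apply]
    rcases hu x with ⟨a, rfl⟩ | ⟨a, rfl⟩ <;> rcases hu y with ⟨b, rfl⟩ | ⟨b, rfl⟩
    · exact congrArg u₁ ((u₁ ≫ l).isOpenEmbedding.injective hxy)
    · exact hc a b hj'
    · exact (hc b a hj'.symm).symm
    · exact congrArg u₂ ((u₂ ≫ l).isOpenEmbedding.injective hxy)
  have hsurj : Function.Surjective l := by
    intro p
    rcases ho (pullback.fst f i p) with ⟨y, hy⟩ | ⟨y, hy⟩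
    · obtain ⟨z, hz1, hz2⟩ := Scheme.exists_preimage_of_isPullback k1 y p hy
      exact ⟨u₁ z, hz2⟩
    · obtain ⟨z, hz1, hz2⟩ := Scheme.exists_preimage_of_isPullback k2 y p hy
      exact ⟨u₂ z, hz2⟩
  have hop : IsOpenImmersion l := Groth.Agent.Ega4dA.LocalIsoAux.isOpenImmersion_of_injective l hinj
  have hiso : IsIso l := (isIso_iff_isOpenImmersion_and_epi_base l).2 ⟨hop, (TopCat.epi_iff_surjective _).2 hsurj⟩
  exact IsPullback.of_iso_pullback ⟨hj⟩ (asIso l) hl1 hl2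

end glue

/-- `f₀` is the base change along `i` of a flat morphism. -/
def HasFlatLift {S₀ S X₀ : Scheme.{u}} (i : S₀ ⟶ S) (f₀ : X₀ ⟶ S₀) : Prop :=
  ∃ (X : Scheme.{u}) (f : X ⟶ S) (j : X₀ ⟶ X), IsPullback j f₀ f i ∧ Flat f

/-- First order thickenings of affine schemes are stable under base change. -/
theorem isFirstOrderThickening_of_isPullback {Y Y' S S' : Scheme.{u}} {iY : Y ⟶ Y'} {iS : S ⟶ S'}
    {g : Y ⟶ S} {g' : Y' ⟶ S'} [IsAffine S'] (hc : IsPullback iY g g' iS)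
    (hS : MoreMor.IsFirstOrderThickening iS) : MoreMor.IsFirstOrderThickening iY := by
  obtain ⟨⟨h1, h2⟩, hn⟩ := hS
  have h3 : IsClosedImmersion iY := MorphismProperty.of_isPullback (P := @IsClosedImmersion) hc.flip h1
  have h4 : Surjective iY := MorphismProperty.of_isPullback (P := @Surjective) hc.flip h2
  have hn' := congr(($hn).ideal ⟨⊤, isAffineOpen_top S'⟩)
  rw [Scheme.IdealSheafData.ideal_mul, Pi.mul_apply, Scheme.Hom.ker_apply] at hn'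
  refine ⟨⟨h3, h4⟩, ?_⟩
  ext V : 2
  have h5 := (Groth.Agent.Flat2D.ThickRed.app_of_isPullback hc (isAffineOpen_top S') V.2 le_top).2.2
  rw [Scheme.IdealSheafData.ideal_mul, Pi.mul_apply, Scheme.Hom.ker_apply, h5, ← Ideal.map_mul, hn']
  simp

theorem isFiniteOrder {Y Y' : Scheme.{u}} {i : Y ⟶ Y'} (h : MoreMor.IsFirstOrderThickening i) :
    MoreMor.IsFiniteOrderThickening i :=
  ⟨h.1, 2, by rw [pow_two]; exact h.2⟩

/-- Lifting to smooth schemes along first order thickenings of affine schemes. -/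
theorem exists_lift_smooth {V S T T' : Scheme.{u}} (v : V ⟶ S) [Smooth v] (t : T ⟶ T') [IsAffine T']
    (ht : MoreMor.IsFirstOrderThickening t) (a : T ⟶ V) (b : T' ⟶ S) (h : t ≫ b = a ≫ v) :
    ∃ l : T' ⟶ V, t ≫ l = a ∧ l ≫ v = b := by
  have hv := ((Groth.Agent.S1488.result v).1 ‹_›).2
  have := ht.1.1
  obtain ⟨A, _, I, hI, e', e, w⟩ := K635.InfLift.exists_iso_spec t ht.2
  obtain ⟨l, hl1, hl2⟩ := hv A I hI (e.inv ≫ a) (e'.inv ≫ b) (by
    rw [Category.assoc, ← h, ← Category.assoc, ← Category.assoc]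
    congr 1
    rw [Iso.eq_inv_comp, ← Category.assoc, ← w, Category.assoc, Iso.hom_inv_id, Category.comp_id])
  refine ⟨e'.hom ≫ l, ?_, ?_⟩
  · rw [← Category.assoc, w, Category.assoc, hl1, Iso.hom_inv_id_assoc]
  · rw [Category.assoc, hl2, Iso.hom_inv_id_assoc]

/-- Restriction of a lift to an open subscheme. -/
theorem exists_restrict {S₀ S U Y W : Scheme.{u}} {i : S₀ ⟶ S} (hi : MoreMor.IsThickening i) {g₀ : U ⟶ S₀}
    {y : Y ⟶ S} {j : U ⟶ Y} (sq : IsPullback j g₀ y i) (w : W ⟶ U) [IsOpenImmersion w] :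
    ∃ (V : Y.Opens) (jW : W ⟶ V), IsPullback jW w V.ι j := by
  have := hi.1
  have := hi.2
  have hi1 : IsClosedImmersion j := MorphismProperty.of_isPullback sq.flip ‹_›
  have hi2 : Surjective j := MorphismProperty.of_isPullback (P := @Surjective) sq.flip ‹_›
  have ho : IsOpenMap j := by
    have h1 : IsClosedMap j := j.isClosedEmbedding.isClosedMap
    exact (isHomeomorph_iff_continuous_isClosedMap_bijective.2 ⟨j.continuous, h1,
      ⟨j.isClosedEmbedding.injective, hi2.surj⟩⟩).isOpenMap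
  let V : Y.Opens := ⟨Set.range (w ≫ j), by
    have h2 : Set.range (w ≫ j) = j '' Set.range w := by
      rw [Scheme.Hom.comp_base, TopCat.coe_comp, Set.range_comp]
    rw [h2]
    exact ho _ w.isOpenEmbedding.isOpen_range⟩
  have hV : Set.range (w ≫ j) ⊆ Set.range V.ι := by
    rw [Scheme.Opens.range_ι]
    exact le_rfl
  refine ⟨V, IsOpenImmersion.lift V.ι (w ≫ j) hV, ?_⟩
  refine IsOpenImmersion.isPullback _ _ _ _ (IsOpenImmersion.lift_fac _ _ _).symm ?_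
  apply le_antisymm
  · intro x hx
    have h3 : j x ∈ Set.range (w ≫ j) := by
      have : j x ∈ V.ι.opensRange := hx
      rwa [Scheme.Opens.opensRange_ι] at this
    obtain ⟨z, hz⟩ := h3
    rw [Scheme.Hom.comp_apply] at hz
    exact ⟨z, j.isClosedEmbedding.injective hz⟩
  · rintro _ ⟨z, rfl⟩
    change j (w z) ∈ V.ι.opensRange
    rw [Scheme.Opens.opensRange_ι]
    exact ⟨z, Scheme.Hom.comp_apply _ _ _⟩

/-- **Gluing of lifts.** -/
theorem hasFlatLift_of_two {S₀ S X₀ : Scheme.{u}} [IsAffine S] (i : S₀ ⟶ S) (hi : MoreMor.IsFirstOrderThickening i)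
    (f₀ : X₀ ⟶ S₀) (U₁ U₂ : X₀.Opens) (hU : U₁ ⊔ U₂ = ⊤) (hA : IsAffineOpen (U₁ ⊓ U₂))
    (hsm : Smooth ((U₁ ⊓ U₂).ι ≫ f₀)) (h1 : HasFlatLift i (U₁.ι ≫ f₀)) (h2 : HasFlatLift i (U₂.ι ≫ f₀)) :
    HasFlatLift i f₀ := by
  have hci := hi.1.1
  obtain ⟨Y₁, y₁, j₁, sq1, hf1⟩ := h1
  obtain ⟨Y₂, y₂, j₂, sq2, hf2⟩ := h2
  let w₁ : (↑(U₁ ⊓ U₂) : Scheme.{u}) ⟶ U₁ := X₀.homOfLE inf_le_left
  let w₂ : (↑(U₁ ⊓ U₂) : Scheme.{u}) ⟶ U₂ := X₀.homOfLE inf_le_right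
  have hw₁ : w₁ ≫ U₁.ι = (U₁ ⊓ U₂).ι := Scheme.homOfLE_ι _ _
  have hw₂ : w₂ ≫ U₂.ι = (U₁ ⊓ U₂).ι := Scheme.homOfLE_ι _ _
  obtain ⟨V₁, a₁, r1⟩ := exists_restrict hi.1 sq1 w₁
  obtain ⟨V₂, a₂, r2⟩ := exists_restrict hi.1 sq2 w₂
  have t1 : IsPullback a₁ ((U₁ ⊓ U₂).ι ≫ f₀) (V₁.ι ≫ y₁) i := by
    have := r1.paste_vert sq1
    rwa [← Category.assoc, hw₁] at this
  have t2 : IsPullback a₂ ((U₁ ⊓ U₂).ι ≫ f₀) (V₂.ι ≫ y₂) i := by
    have := r2.paste_vert sq2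
    rwa [← Category.assoc, hw₂] at this
  have : IsAffine (↑(U₁ ⊓ U₂) : Scheme.{u}) := hA
  have ha2 := isFirstOrderThickening_of_isPullback t2 hi
  have hV2 : IsAffine (V₂ : Scheme.{u}) := by
    have := ha2.1.1
    exact Groth.Agent.S0440.result a₂ ha2.1.2.surj
  have hsm1 : Smooth (V₁.ι ≫ y₁) := by
    have : Flat ((V₁.ι ≫ y₁) ≫ 𝟙 S) := by
      rw [Category.comp_id]
      infer_instance
    refine (Groth.Agent.S1321.result a₁ i i ((U₁ ⊓ U₂).ι ≫ f₀) (V₁.ι ≫ y₁) (𝟙 S₀) (𝟙 S) (isFiniteOrder hi)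
      (by rw [Category.comp_id, Category.comp_id]; exact t1) (IsPullback.of_vert_isIso ⟨by simp⟩) t1.w).1 hsm
  obtain ⟨θ, hθ1, hθ2⟩ := exists_lift_smooth (V₁.ι ≫ y₁) a₂ ha2 a₁ (V₂.ι ≫ y₂) (by rw [t2.w, t1.w])
  have hθ : IsIso θ := by
    have h3 : Flat (θ ≫ V₁.ι ≫ y₁) := by
      rw [hθ2]
      infer_instance
    exact (Groth.Agent.S1318.result a₂ a₁ i (𝟙 _) θ ((U₁ ⊓ U₂).ι ≫ f₀) (V₁.ι ≫ y₁) (isFiniteOrder hi)
      (by rw [Category.id_comp, hθ2]; exact t2) t1 (by rw [Category.id_comp, hθ1])).1 inferInstance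
  obtain ⟨X, o₁, o₂, ho1, ho2, hpo, hpb, hcov⟩ := Groth.Agent.Flat2C.GlueSep.exists_pushout (θ ≫ V₁.ι) V₂.ι
  let f : X ⟶ S := hpo.desc y₁ y₂ (by rw [Category.assoc, hθ2])
  have hf₁ : o₁ ≫ f = y₁ := hpo.inl_desc _ _ _
  have hf₂ : o₂ ≫ f = y₂ := hpo.inr_desc _ _ _
  have hW1 : a₂ ≫ θ ≫ V₁.ι = w₁ ≫ j₁ := by rw [← Category.assoc, hθ1, r1.w]
  obtain ⟨j, hj1, hj2⟩ := Groth.Agent.Flat2C.NagataCore.exists_desc U₁ U₂ hU (j₁ ≫ o₁) (j₂ ≫ o₂) (by
    change w₁ ≫ j₁ ≫ o₁ = w₂ ≫ j₂ ≫ o₂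
    calc w₁ ≫ j₁ ≫ o₁ = (a₂ ≫ θ ≫ V₁.ι) ≫ o₁ := by rw [hW1, Category.assoc]
      _ = a₂ ≫ V₂.ι ≫ o₂ := by rw [Category.assoc, ← hpo.w]
      _ = w₂ ≫ j₂ ≫ o₂ := by rw [← Category.assoc, r2.w, Category.assoc])
  have hjf : j ≫ f = f₀ ≫ i := by
    apply Groth.Agent.Flat2C.NagataCore.hom_ext_of_cover U₁ U₂ hU
    · rw [← Category.assoc, hj1, Category.assoc, hf₁, sq1.w, Category.assoc]
    · rw [← Category.assoc, hj2, Category.assoc, hf₂, sq2.w, Category.assoc]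
  refine ⟨X, f, j, ?_, ?_⟩
  · refine isPullback_glue (u₁ := U₁.ι) (u₂ := U₂.ι) ?_ (w₁ := w₁) (w₂ := w₂) (hw₁.trans hw₂.symm) hcov hpb hjf hj1 hj2
      hW1 r2 ?_ ?_
    · intro x
      have hx : x ∈ U₁ ⊔ U₂ := by rw [hU]; trivial
      rw [Scheme.Opens.range_ι, Scheme.Opens.range_ι]
      exact hx
    · rw [hf₁]; exact sq1
    · rw [hf₂]; exact sq2
  · have hs : (⨆ b : Bool, (if b then o₁.opensRange else o₂.opensRange)) = (⊤ : X.Opens) := by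
      rw [eq_top_iff]
      intro x _
      rcases hcov x with h | h
      · exact TopologicalSpace.Opens.mem_iSup.2 ⟨true, h⟩
      · exact TopologicalSpace.Opens.mem_iSup.2 ⟨false, h⟩
    rw [IsZariskiLocalAtSource.iff_of_iSup_eq_top (P := @Flat) _ hs]
    intro b
    cases b
    · have : (if (false : Bool) = true then o₁.opensRange else o₂.opensRange).ι ≫ f =
          o₂.isoOpensRange.inv ≫ y₂ := by
        rw [← hf₂, ← Category.assoc, Scheme.Hom.isoOpensRange_inv_comp]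
        rfl
      rw [this]
      infer_instance
    · have : (if (true : Bool) = true then o₁.opensRange else o₂.opensRange).ι ≫ f =
          o₁.isoOpensRange.inv ≫ y₁ := by
        rw [← hf₁, ← Category.assoc, Scheme.Hom.isoOpensRange_inv_comp]
        rfl
      rw [this]
      infer_instance

end K902.LiftGlue
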