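import Groth.Agent.CurvSt.K902.CurveCover
import Groth.Agent.CurvSt.K902.LiftGlue
import Groth.Agent.AlgSp.K634.Quot
import Groth.Agent.Synt.K563.SchNhd
import Groth.Agent.UnramB.FirstOrderNbhd
import Groth.Agent.S9758
import Groth.Agent.S1303
import Groth.Agent.S1304
import Groth.Agent.S2306
import Groth.Agent.S1320
import Groth.Agent.Variety.K418.DimFlat

/-!
# Lifting local complete intersection curves along first order thickenings of local rings
-/

set_option autoImplicit false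

universe u

open CategoryTheory CategoryTheory.Limits AlgebraicGeometry

namespace K902.CurveLift

open K902.LiftGlue

/-- Syntomic algebras lift along surjections (the statement S6826). -/
def SynLift : Prop :=
  ∀ {R A₀ : Type u} [CommRing R] (I : Ideal R) [CommRing A₀] [Algebra (R ⧸ I) A₀] (_ : Synt.IsSyntomic (R ⧸ I) A₀),
    ∃ (A : Type u) (_ : CommRing A) (_ : Algebra R A), Synt.IsSyntomic R A ∧
      Nonempty ((A ⧸ I.map (algebraMap R A)) ≃ₐ[R ⧸ I] A₀)

/-- `Spec (R/I) ⟶ Spec R` is a first order thickening if `I ^ 2 = 0`. -/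
theorem isFirstOrderThickening_mk {R : Type u} [CommRing R] (I : Ideal R) (hI : I ^ 2 = ⊥) :
    MoreMor.IsFirstOrderThickening (Spec.map (CommRingCat.ofHom (Ideal.Quotient.mk I))) := by
  have hk : RingHom.ker (CommRingCat.ofHom (Ideal.Quotient.mk I)).hom ^ 2 = ⊥ := by
    rw [CommRingCat.hom_ofHom, Ideal.mk_ker, hI]
  refine ⟨⟨IsClosedImmersion.spec_of_surjective _ Ideal.Quotient.mk_surjective, ?_⟩, ?_⟩
  · exact Groth.Agent.UnramB.FirstOrderNbhd.surjective_SpecMap_of_ker_sq _ Ideal.Quotient.mk_surjective hk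
  · rw [← pow_two]
    exact Groth.Agent.UnramB.FirstOrderNbhd.ker_sq_SpecMap _ hk

/-- An affine syntomic scheme over `Spec (R/I)` lifts. -/
theorem hasFlatLift_of_affine (H : SynLift.{u}) {R : Type u} [CommRing R] (I : Ideal R) {X₀ : Scheme.{u}} [IsAffine X₀]
    (f₀ : X₀ ⟶ Spec (CommRingCat.of (R ⧸ I))) (h : Synt.IsSyntomicMor f₀) :
    HasFlatLift (Spec.map (CommRingCat.ofHom (Ideal.Quotient.mk I))) f₀ := by
  obtain ⟨φ, hφ⟩ := Spec.map_surjective (X₀.isoSpec.inv ≫ f₀)
  have h1 : Synt.IsSyntomicMor (Spec.map φ) := by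
    rw [hφ]
    exact K563.SchNhd.isSyntomicMor_openImmersion_comp _ _ h
  let _ : Algebra (R ⧸ I) Γ(X₀, ⊤) := φ.hom.toAlgebra
  have h2 : Synt.IsSyntomic (R ⧸ I) Γ(X₀, ⊤) := (K563.SchNhd.isSyntomicMor_spec_iff _ _).1 h1
  obtain ⟨A, _, _, hA, ⟨ε⟩⟩ := H I h2
  have hflat : Module.Flat R A := hA.1
  let e : X₀ ≅ Spec (CommRingCat.of (A ⧸ I.map (algebraMap R A))) :=
    X₀.isoSpec ≪≫ Scheme.Spec.mapIso (RingEquiv.toCommRingCatIso (ε : _ ≃+* _)).op
  refine ⟨Spec (CommRingCat.of A), Spec.map (CommRingCat.ofHom (algebraMap R A)),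
    e.hom ≫ Spec.map (CommRingCat.ofHom (Ideal.Quotient.mk (I.map (algebraMap R A)))), ?_, ?_⟩
  · refine IsPullback.of_iso (K634.Quot.isPullback_quot (algebraMap R A) I) e.symm (Iso.refl _) (Iso.refl _) (Iso.refl _)
      ?_ ?_ ?_ ?_
    · simp
    · have h3 : e.inv = Spec.map (RingEquiv.toCommRingCatIso (ε : _ ≃+* _)).inv ≫ X₀.isoSpec.inv := by
        simp only [e, Iso.trans_inv, Functor.mapIso_inv, Iso.op_inv]
        rfl
      rw [Iso.symm_hom, Iso.refl_hom, Category.comp_id, h3, Category.assoc, ← hφ, ← Spec.map_comp]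
      congr 1
      ext x
      change (Ideal.quotientMap (I.map (algebraMap R A)) (algebraMap R A) Ideal.le_comap_map) x =
        ε.symm (algebraMap (R ⧸ I) Γ(X₀, ⊤) x)
      rw [AlgEquiv.commutes]
      rfl
    · simp
    · simp
  · rw [Flat.SpecMap_iff]
    exact (RingHom.flat_algebraMap_iff).2 hflat

/-- **Lifting curves.** Over a local ring, a flat projective local complete intersection curve with finitely many
non-smooth points in the closed fibre lifts along every first order thickening. -/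
theorem hasFlatLift_curve (H : SynLift.{u}) {A : Type u} [CommRing A] [IsLocalRing A] (I : Ideal A) (hI : I ^ 2 = ⊥)
    [IsLocalRing (A ⧸ I)] {X₀ : Scheme.{u}} (f₀ : X₀ ⟶ Spec (CommRingCat.of (A ⧸ I))) [IsProper f₀] [Flat f₀]
    [LocallyOfFinitePresentation f₀] (hf : RelProj.IsHProjective f₀) (hlci : ∀ x, Synt.IsKoszulAt f₀ x)
    (hdim : topologicalKrullDim (f₀.fiber (IsLocalRing.closedPoint (A ⧸ I))) ≤ 1)
    (hns : {x : X₀ | f₀ x = IsLocalRing.closedPoint (A ⧸ I) ∧ x ∉ f₀.smoothLocus}.Finite) :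
    HasFlatLift (Spec.map (CommRingCat.ofHom (Ideal.Quotient.mk I))) f₀ := by
  obtain ⟨U₁, U₂, hU₁, hU₂, hU, hU₁₂, hsm⟩ :=
    K902.CurveCover.exists_cover (A := CommRingCat.of (A ⧸ I)) f₀ hf hdim hns
  have hsyn : Synt.IsSyntomicMor f₀ := (Groth.Agent.S9758.result f₀).1 ⟨inferInstance, hlci⟩
  have hlift : ∀ U : X₀.Opens, IsAffineOpen U →
      HasFlatLift (Spec.map (CommRingCat.ofHom (Ideal.Quotient.mk I))) (U.ι ≫ f₀) := fun U hU =>
    have : IsAffine U := hU
    hasFlatLift_of_affine H I _ (K563.SchNhd.isSyntomicMor_openImmersion_comp _ _ hsyn)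
  refine hasFlatLift_of_two _ (isFirstOrderThickening_mk I hI) f₀ U₁ U₂ hU hU₁₂ ?_ (hlift U₁ hU₁) (hlift U₂ hU₂)
  rw [← Scheme.Hom.smoothLocus_eq_top_iff, ← Scheme.Hom.preimage_smoothLocus_eq, eq_top_iff]
  intro x _
  exact hsm (inf_le_right (a := U₁) x.2)

/-- Properties of a flat lift along a first order thickening. -/
theorem facts_of_lift {S₀ S X₀ X : Scheme.{u}} [IsAffine S] {i : S₀ ⟶ S} (hi : MoreMor.IsFirstOrderThickening i)
    {f₀ : X₀ ⟶ S₀} {f : X ⟶ S} {j : X₀ ⟶ X} (sq : IsPullback j f₀ f i) [Flat f] [IsProper f₀]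
    [LocallyOfFinitePresentation f₀] :
    IsProper f ∧ LocallyOfFinitePresentation f ∧ ∀ d : WithBot ℕ∞, (∀ x, FlatMor.fibreDimAt f₀ x ≤ d) →
      ∀ x, FlatMor.fibreDimAt f x ≤ d := by
  have hj := isFirstOrderThickening_of_isPullback sq hi
  have := hi.1.1
  have := hi.1.2
  have := hj.1.1
  have := hj.1.2
  have h1 : LocallyOfFinitePresentation f := by
    have : Flat (f ≫ 𝟙 S) := by rw [Category.comp_id]; infer_instance
    exact (Groth.Agent.S1320.result j i i f₀ f (𝟙 S₀) (𝟙 S) (isFiniteOrder hi)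
      (by rw [Category.comp_id, Category.comp_id]; exact sq) (IsPullback.of_vert_isIso ⟨by simp⟩) sq.w).1 inferInstance
  have h2 : QuasiCompact f := (Groth.Agent.S1303.result j i f₀ f hj.1 hi.1 sq.w).1 inferInstance
  have h3 : UniversallyClosed f := (Groth.Agent.S1304.result j i f₀ f hj.1 hi.1 sq.w).1 inferInstance
  have h4 : IsSeparated f := (Groth.Agent.S2306.result f f₀ j i sq.w.symm).2 inferInstance
  refine ⟨{}, h1, fun d hd x => ?_⟩
  obtain ⟨x₀, rfl⟩ := hj.1.2.surj x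
  rw [← K418.DimFlat.fibreDimAt_of_isPullback sq x₀]
  exact hd x₀

end K902.CurveLift
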