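import Groth.Agent.CurvSt.K901.Loci
import Groth.Agent.Synt.K561.LciFibre
import Groth.Agent.Ega4dB.CIFibre
import Groth.Agent.S2164
import Groth.Agent.S2842
import Groth.Agent.S2863

/-!
# The local complete intersection locus of a flat morphism locally of finite presentation

* `isKoszulAt_iff_ci`: for `f` flat and locally of finite presentation, `f` is Koszul at `x` iff the local ring of the
  fibre at `x` is a complete intersection;
* `locusProp_ci`, `locusProp_lci`: the corresponding `K901.Loci.LocusProp`.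
-/

set_option autoImplicit false
universe u

open AlgebraicGeometry CategoryTheory CategoryTheory.Limits IsLocalRing

namespace K902.LociLci

open K901.Loci Groth.Agent K561.LciDict K561.LciFibre K561.RegImmDict
open Groth.Agent.Dual.H375.LciLocus Groth.Agent.Ega4dB.CITransport

/-- Complete intersection local rings, as a property of rings. -/
def CI (A : Type u) [CommRing A] : Prop := ∃ _ : IsLocalRing A, Pi1.IsCompleteIntersection A

theorem ci_iff {A : Type u} [CommRing A] [h : IsLocalRing A] : CI A ↔ Pi1.IsCompleteIntersection A :=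
  ⟨fun ⟨_, h⟩ => h, fun h' => ⟨h, h'⟩⟩

theorem etInv_ci : EtInv.{u} (fun A _ => CI A) where
  iso A B _ _ e h := by
    obtain ⟨h1, h2⟩ := h
    have : IsLocalRing B := e.isLocalRing
    exact ⟨this, (isCompleteIntersection_iff_of_ringEquiv e).1 h2⟩
  etale A B _ _ _ _ _ _ _ _ _ h := by
    have h0 : IsField (B ⧸ (maximalIdeal A).map (algebraMap A B)) := by
      rw [h]
      exact (Ideal.Quotient.maximal_ideal_iff_isField_quotient _).1 inferInstance
    let _ : Field (B ⧸ (maximalIdeal A).map (algebraMap A B)) := h0.toField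
    have h1 : IsLocalRing (B ⧸ (maximalIdeal A).map (algebraMap A B)) := inferInstance
    rw [ci_iff, ci_iff, S2164.result (A := A) (B := B)]
    refine and_iff_left ?_
    exact S2842.isCompleteIntersection_of_isRegularLocalRing _

variable {X Y : Scheme.{u}}

/-- Near a point where the fibre is a complete intersection a flat morphism is a local complete intersection. -/
theorem exists_LM_of_ci (f : X ⟶ Y) [Flat f] [LocallyOfFinitePresentation f] (x : X)
    (hf : Pi1.IsCompleteIntersection (CInt.fiberStalk f x)) : ∃ U : X.Opens, x ∈ U ∧ LM (U.ι ≫ f) := by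
  let U : X.Opens := ⟨{x : X | Pi1.IsCompleteIntersection (CInt.fiberStalk f x)}, (S2863.result f).1⟩
  refine ⟨U, hf, LM_of_ci_fiberStalk (U.ι ≫ f) fun y => ?_⟩
  exact (isCompleteIntersection_open_iff f U y).2 y.2

theorem isKoszulAt_of_LM (f : X ⟶ Y) (x : X) (U : X.Opens) (hx : x ∈ U) (h : LM (U.ι ≫ f)) :
    Synt.IsKoszulAt f x := by
  obtain ⟨V, P, i, π, hxV, -, -, -, hi, hπ, he⟩ := exists_factorisation (U.ι ≫ f) h ⟨x, hx⟩ ⊤ trivial
  let e := U.ι.isoImage V
  have he1 : e.hom ≫ (U.ι ''ᵁ V).ι = V.ι ≫ U.ι := U.ι.isoImage_hom_ι V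
  have he2 : (U.ι ''ᵁ V).ι = e.inv ≫ V.ι ≫ U.ι := by rw [← he1, Iso.inv_hom_id_assoc]
  have he3 : (e.inv ≫ i) ≫ π = (U.ι ''ᵁ V).ι ≫ f := by
    rw [Category.assoc, he, he2, Category.assoc, Category.assoc]
  refine ⟨U.ι ''ᵁ V, P, e.inv ≫ i, π, ⟨⟨x, hx⟩, hxV, rfl⟩, ?_, ?_, hπ, he3⟩
  · rw [← he3]; infer_instance
  · rw [isRegularImmersion_koszul_iff]
    refine ⟨inferInstance, LM_of_comp_smooth _ π ?_⟩
    rw [he3, he2, Category.assoc, Category.assoc]
    exact LM_comp (LM_smooth e.inv) (LM_comp (LM_smooth V.ι) h)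

theorem exists_LM_of_isKoszulAt (f : X ⟶ Y) (x : X) (h : Synt.IsKoszulAt f x) :
    ∃ U : X.Opens, x ∈ U ∧ LM (U.ι ≫ f) := by
  obtain ⟨U, P, i, π, hx, -, hi, hπ, he⟩ := h
  refine ⟨U, hx, ?_⟩
  rw [← he]
  exact LM_comp ((isRegularImmersion_koszul_iff i).1 hi).2 (LM_smooth π)

/-- Koszul at a point iff a local complete intersection on a neighbourhood. -/
theorem isKoszulAt_iff_exists (f : X ⟶ Y) (x : X) :
    Synt.IsKoszulAt f x ↔ ∃ U : X.Opens, x ∈ U ∧ LM (U.ι ≫ f) :=
  ⟨exists_LM_of_isKoszulAt f x, fun ⟨U, hx, h⟩ => isKoszulAt_of_LM f x U hx h⟩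

/-- For flat morphisms locally of finite presentation, Koszul at `x` iff the local ring of the fibre at `x` is a
complete intersection. -/
theorem isKoszulAt_iff_ci (f : X ⟶ Y) [Flat f] [LocallyOfFinitePresentation f] (x : X) :
    Synt.IsKoszulAt f x ↔ Pi1.IsCompleteIntersection (CInt.fiberStalk f x) := by
  rw [isKoszulAt_iff_exists]
  constructor
  · rintro ⟨U, hx, h⟩
    exact (isCompleteIntersection_open_iff f U ⟨x, hx⟩).1 (ci_fiberStalk (U.ι ≫ f) h ⟨x, hx⟩)
  · exact exists_LM_of_ci f x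

theorem isKoszulAt_iff_fibLoc (f : X ⟶ Y) [Flat f] [LocallyOfFinitePresentation f] (x : X) :
    Synt.IsKoszulAt f x ↔ FibLoc (fun A _ => CI A) f x := by
  rw [isKoszulAt_iff_ci]
  exact ⟨fun h => ⟨Flat.stalkMap f x, _, h⟩, fun h => ci_iff.1 h.2⟩

/-- The local complete intersection locus. -/
theorem locusProp_lci : LocusProp.{u} (fun _ _ f x => Synt.IsKoszulAt f x) where
  isOpen X Y f _ _ := by
    have : {x : X | Synt.IsKoszulAt f x} = {x : X | Pi1.IsCompleteIntersection (CInt.fiberStalk f x)} :=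
      Set.ext fun x => isKoszulAt_iff_ci f x
    rw [this]
    exact (S2863.result f).1
  baseChange X Y X' Y' f f' g' g _ _ hsq x' := by
    have h1 : Flat f' := MorphismProperty.of_isPullback hsq ‹_›
    have h2 : LocallyOfFinitePresentation f' := MorphismProperty.of_isPullback hsq ‹_›
    rw [isKoszulAt_iff_ci, isKoszulAt_iff_ci]
    exact (Groth.Agent.Ega4dB.CIFibre.isCI_fiberStalk_iff_of_isPullback hsq x').symm
  source U X Y a f _ _ _ u := by
    rw [isKoszulAt_iff_fibLoc, isKoszulAt_iff_fibLoc]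
    exact fibLoc_comp_etale etInv_ci a f u

end K902.LociLci
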