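import Groth.Agent.CurvSt.K901.SchPre
import Groth.Agent.CurvSt.K902.LociLci
import Groth.Agent.CurvSt.K903.CINodal
import Groth.Agent.TopDim.K284.Basic
import Groth.Agent.S1589

/-!
# Nodal families are local complete intersections with finitely many singular points in the geometric fibres

* `isKoszulAt_of_nodalAt` : a flat morphism locally of finite presentation is lci at its nodal points;
* `finite_nonsmooth` : a nodal proper scheme over an algebraically closed field has finitely many non-smooth points.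
-/

set_option autoImplicit false

universe u

open CategoryTheory CategoryTheory.Limits AlgebraicGeometry TopologicalSpace

namespace K902.NodalLci

open CurvSt AlgSp K901.GeomFibAt K901.GeomLoc K901.EtSch K901.Loci K901.SchLoc K901.SchPre
open Groth.Agent

/-- A closed set of closed points in a Noetherian sober space is finite. -/
theorem finite_of_forall_isClosed {X : Type*} [TopologicalSpace X] [NoetherianSpace X] [QuasiSober X] {Z : Set X}
    (hZ : IsClosed Z) (h : ∀ z ∈ Z, IsClosed ({z} : Set X)) : Z.Finite := by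
  obtain ⟨F, hF, h1, h2, rfl⟩ := NoetherianSpace.exists_finite_set_isClosed_irreducible hZ
  refine hF.sUnion fun t ht => ?_
  obtain ⟨x, hx⟩ := QuasiSober.sober (h2 t ht) (h1 t ht)
  have hxt : x ∈ t := by
    rw [← hx]
    exact subset_closure rfl
  rw [← hx.def, (h x ⟨t, ht, hxt⟩).closure_eq]
  exact Set.finite_singleton x

theorem dim_le_one_of_components {X : Type u} [TopologicalSpace X]
    (h : ∀ Z ∈ irreducibleComponents X, topologicalKrullDim ↥Z = 1) : topologicalKrullDim X ≤ 1 := by
  rw [K284.TopDim.dim_eq_iSup_of_forall_irreducible (fun Z : irreducibleComponents X => Z.1)]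
  · exact iSup_le fun Z => (h Z.1 Z.2).le
  · intro Z hZ
    obtain ⟨W, hW, hZW⟩ := exists_mem_irreducibleComponents_subset_of_isIrreducible Z hZ
    exact ⟨⟨W, hW⟩, hZW⟩

section Field

variable {Ω : Type u} [Field Ω] [IsAlgClosed Ω] {X : Scheme.{u}} (q : X ⟶ Spec (CommRingCat.of Ω))

omit [IsAlgClosed Ω] in
theorem facts [LocallyOfFinitePresentation q] (h : Curv2.IsNodalFamily q) :
    @Curv2.AtWorstNodal Ω _ X ⟨q⟩ ∧ topologicalKrullDim X ≤ 1 ∧ IsReduced X := by
  obtain ⟨h1, h2⟩ := (nodal_field_iff q).2 h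
  let i1 : X.Over (Spec (CommRingCat.of Ω)) := ⟨q⟩
  have i2 : LocallyOfFiniteType (X ↘ Spec (CommRingCat.of Ω)) := inferInstanceAs (LocallyOfFiniteType q)
  have h3 : GeometricallyReduced q := (S1589.result Ω X h2 h1).2
  refine ⟨h1, dim_le_one_of_components h2, ?_⟩
  have := h.1
  exact GeometricallyReduced.isReduced_of_flat_of_isLocallyNoetherian q

theorem isKoszulAt_of_isNodalFamily [LocallyOfFinitePresentation q] (h : Curv2.IsNodalFamily q) (x : X) :
    Synt.IsKoszulAt q x := by
  obtain ⟨h1, h2, h3⟩ := facts q h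
  have := h.1
  let i1 : X.Over (Spec (CommRingCat.of Ω)) := ⟨q⟩
  have i2 : LocallyOfFiniteType (X ↘ Spec (CommRingCat.of Ω)) := inferInstanceAs (LocallyOfFiniteType q)
  have i3 : LocallyOfFinitePresentation (X ↘ Spec (CommRingCat.of Ω)) :=
    inferInstanceAs (LocallyOfFinitePresentation q)
  rw [K902.LociLci.isKoszulAt_iff_ci, K903.CINodal.isCI_fiberStalk_iff]
  exact K903.CINodal.isCI_stalk Ω X h2 h1 x

theorem isKoszulAt_field [LocallyOfFinitePresentation q] [Flat q] (x : X) (h : NodalAt q x) : Synt.IsKoszulAt q x := by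
  have h1 := S1591.isNodalFamily_nodalLocus q
  have h2 := isKoszulAt_of_isNodalFamily ((S1591.nodalLocus q).ι ≫ q) h1 ⟨x, h⟩
  exact (K902.LociLci.locusProp_lci.source (S1591.nodalLocus q).ι q ⟨x, h⟩).1 h2

theorem finite_nonsmooth [IsProper q] (h : Curv2.IsNodalFamily q) :
    Set.Finite {x : ↥X | ¬ ∃ U : X.Opens, x ∈ U ∧ Smooth (U.ι ≫ q)} := by
  have h0 : LocallyOfFinitePresentation q := h.2.1
  obtain ⟨h1, h2, h3⟩ := facts q h
  let i1 : X.Over (Spec (CommRingCat.of Ω)) := ⟨q⟩
  have i2 : LocallyOfFiniteType (X ↘ Spec (CommRingCat.of Ω)) := inferInstanceAs (LocallyOfFiniteType q)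
  have i3 : LocallyOfFinitePresentation (X ↘ Spec (CommRingCat.of Ω)) :=
    inferInstanceAs (LocallyOfFinitePresentation q)
  have i4 : IsLocallyNoetherian X := LocallyOfFiniteType.isLocallyNoetherian q
  have i5 : CompactSpace X := QuasiCompact.compactSpace_of_compactSpace q
  have i6 : IsNoetherian X := ⟨⟩
  have h4 : {x : ↥X | ¬ ∃ U : X.Opens, x ∈ U ∧ Smooth (U.ι ≫ q)} = ((q.smoothLocus : Set X))ᶜ := by
    ext x
    exact not_congr (K903.NonsmoothFin.mem_smoothLocus_iff_exists q x).symm
  rw [h4]
  refine finite_of_forall_isClosed q.smoothLocus.isOpen.isClosed_compl fun z hz => ?_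
  exact K903.CINodal.isClosed_of_nonsmooth Ω X h2 z hz

end Field

/-- A flat morphism locally of finite presentation is lci at its nodal points. -/
theorem isKoszulAt_of_nodalAt {X Y : Scheme.{u}} (f : X ⟶ Y) [Flat f] [LocallyOfFinitePresentation f] (x : X)
    (h : NodalAt f x) : Synt.IsKoszulAt f x := by
  obtain ⟨Ω, _, _, t, ht⟩ := exists_geomPt (f x)
  have sq : IsPullback (pullback.fst f t) (pullback.snd f t) f t := IsPullback.of_hasPullback f t
  obtain ⟨x', hx'⟩ := exists_lift_fibre sq x ht.symm
  have h1 : Flat (pullback.snd f t) := inferInstance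
  have h2 := isKoszulAt_field (pullback.snd f t) x' ((locusProp_nodal.baseChange f _ _ t sq x').2 (by rw [hx']; exact h))
  have h3 := (K902.LociLci.locusProp_lci.baseChange f _ _ t sq x').1 h2
  rwa [hx'] at h3

end K902.NodalLci
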