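import Groth.Agent.CurvSt.K902.CurvesSmooth
import Groth.Agent.CurvSt.K901.RowsSch
import Groth.Agent.S9699

/-!
# Smooth open substacks of the stack of curves

* `HasOpenLocus.and`;
* `main`: smoothness of an open substack of `Curves S 0` from the algebraicity of `Curves S 0` and the interfaces `SynLift`
  (S6826), `HLoc S` (S17304) and the local finite presentation of the stack of curves (S17183);
* `s17301`.
-/

set_option autoImplicit false

universe v₂ u₂ u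

open CategoryTheory CategoryTheory.Limits AlgebraicGeometry

namespace K902.SmStack

open CurvSt AlgSp K901.EtSch K901.Loci K901.LocusOpen K901.GeomLoc K902.CurveLift K902.CurvesSmooth K899.OpenCrit

variable {S : Scheme.{u}}

theorem hasOpenLocus_and {𝒳 : BasedCategory.{v₂, u₂} (Over S)} {Q Q' : 𝒳.obj → Prop} (h : HasOpenLocus (𝒳 := 𝒳) Q)
    (h' : HasOpenLocus (𝒳 := 𝒳) Q') : HasOpenLocus (𝒳 := 𝒳) (fun A => Q A ∧ Q' A) := by
  intro x
  obtain ⟨U, hU⟩ := h x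
  obtain ⟨U', hU'⟩ := h' x
  refine ⟨U ⊓ U', fun y φ => ?_⟩
  exact (and_congr (hU y φ) (hU' y φ)).trans Set.subset_inter_iff.symm

theorem openLocus_of_has {𝒳 : BasedCategory.{v₂, u₂} (Over S)} {Q : 𝒳.obj → Prop} (h : HasOpenLocus (𝒳 := 𝒳) Q) :
    K901.OpenSub.OpenLocus 𝒳 Q := h

theorem etLocSch_of_hLoc (h : HLoc S) (A : (Curves S 0).obj) : EtLocSch A.obj := by
  intro s
  obtain ⟨T', g, v, X', q, j, h1, h2, h3, -⟩ := h A s
  exact ⟨T', g, v, X', q, j, h1, h2, h3⟩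

theorem hasSchFibres_of_hLoc (h : HLoc S) (A : (Curves S 0).obj) : HasSchFibres A.obj :=
  hasSchFibres_of_etLocSch (etLocSch_of_hLoc h A)

/-- **Smoothness of open substacks of the stack of curves.** -/
theorem main (H : SynLift.{u}) (hloc : HLoc S)
    (hC : AlgSt.IsAlgStack Scheme.fppfPrecoverage (Curves S 0))
    (hlfp : AlgSt.LocQ (LocP @LocallyOfFinitePresentation) (FibCat.toSelf (Curves S 0)))
    {Q : (Curves S 0).obj → Prop} (hQ : HasOpenLocus (𝒳 := Curves S 0) Q)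
    (hlci : ∀ A, Q A → IsLCIMor A.obj.f)
    (hns : ∀ A, Q A → GeomFib (fun _ _ _ X' q _ =>
            Set.Finite {x : ↥X' | ¬ ∃ U : X'.Opens, x ∈ U ∧ Smooth (U.ι ≫ q)}) A.obj) :
    AlgSt.LocQ (LocP @Smooth) (FibCat.toSelf (AlgSt.fullSub (Curves S 0) Q)) := by
  have := hC.isStack.1
  obtain ⟨U, x, hx, hx', hU⟩ := K902.SelfChart.exists_atlas_lfp hlfp
  exact locQ_smooth H hloc (openLocus_of_has hQ) hlci hns x hx hx'

theorem finite_iff_locP (hloc : HLoc S) (A : (Curves S 0).obj) : GeomFib (fun _ _ _ X' q _ =>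
            Set.Finite {x : ↥X' | ¬ ∃ U : X'.Opens, x ∈ U ∧ Smooth (U.ι ≫ q)}) A.obj ↔
      AlgSp.LocP (Everywhere (SubDim SmoothAt 0)) A.obj.f :=
  geomFib_iff_locP_of_iff (locusProp_subDim locusProp_smooth.{u} 0) A.obj A.property (hasSchFibres_of_hLoc hloc A)
    fun Ω _ _ X' q m _ _ => by
      have : LocallyOfFinitePresentation q := LocallyOfFinitePresentation.iff_locallyOfFiniteType.2 inferInstance
      exact finite_iff_subDim locusProp_smooth q

theorem s17301 (H : SynLift.{u}) (hloc : HLoc S)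
    (hC : AlgSt.IsAlgStack Scheme.fppfPrecoverage (Curves S 0))
    (hlfp : AlgSt.LocQ (LocP @LocallyOfFinitePresentation) (FibCat.toSelf (Curves S 0))) :
    AlgSt.IsOpenSubstack (CurvSt.Curves S 0) (fun A => AlgSp.IsLCIMor A.obj.f ∧ CurvSt.GeomFib (fun _ _ _ X' q _ =>
            Set.Finite {x : ↥X' | ¬ ∃ U : X'.Opens, x ∈ U ∧ Smooth (U.ι ≫ q)}) A.obj) Scheme.fppfPrecoverage ∧
      AlgSt.LocQ (AlgSp.LocP @Smooth)
        (FibCat.toSelf (AlgSt.fullSub (CurvSt.Curves S 0) (fun A => AlgSp.IsLCIMor A.obj.f ∧ CurvSt.GeomFib (fun _ _ _ X' q _ =>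
            Set.Finite {x : ↥X' | ¬ ∃ U : X'.Opens, x ∈ U ∧ Smooth (U.ι ≫ q)}) A.obj))) ∧
      ∀ (Ω : Type u) [Field Ω] [IsAlgClosed Ω] (t : Spec (CommRingCat.of Ω) ⟶ S),
        Nonempty ((AlgSt.fullSub (CurvSt.Curves S 0) (fun A => AlgSp.IsLCIMor A.obj.f ∧ CurvSt.GeomFib (fun _ _ _ X' q _ =>
            Set.Finite {x : ↥X' | ¬ ∃ U : X'.Opens, x ∈ U ∧ Smooth (U.ι ≫ q)}) A.obj)).p.Fiber (Over.mk t)) := by
  have h1 : HasOpenLocus (𝒳 := Curves S 0) (fun A => AlgSp.IsLCIMor A.obj.f) :=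
    hasOpenLocus_of_iff K902.LociLci.locusProp_lci fun _ => Iff.rfl
  have h2 : HasOpenLocus (𝒳 := Curves S 0) (fun A => CurvSt.GeomFib (fun _ _ _ X' q _ =>
            Set.Finite {x : ↥X' | ¬ ∃ U : X'.Opens, x ∈ U ∧ Smooth (U.ι ≫ q)}) A.obj) :=
    hasOpenLocus_of_iff (locusProp_subDim locusProp_smooth.{u} 0) (finite_iff_locP hloc)
  have h3 := hasOpenLocus_and h1 h2
  refine ⟨K899.OpenCrit.isOpenSubstack hC h3, main H hloc hC hlfp h3 (fun _ h => h.1) (fun _ h => h.2),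
    fun Ω _ _ t => ?_⟩
  have h4 := K901.P1Obj.smooth_p1' t
  refine K901.P1Obj.nonempty_fiber t _ ⟨?_, (finite_iff_locP hloc _).2 (K901.P1Obj.locP_p1 t
    (locusProp_subDim locusProp_smooth.{u} 0) fun x => ?_)⟩
  · refine K901.P1Obj.locP_p1 t K902.LociLci.locusProp_lci fun x => ?_
    exact ((Groth.Agent.S9758.result (K901.P1Obj.p1 t).f).2 (Groth.Agent.S9699.result _)).2 x
  · rintro Z ι _ hZ z rfl
    have h2 : ι z ∈ Set.range ι := ⟨z, rfl⟩
    rw [hZ] at h2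
    refine absurd ⟨⊤, trivial, ?_⟩ h2
    infer_instance

end K902.SmStack
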