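import Groth.Agent.CurvSt.K902.SchInst
import Groth.Agent.CurvSt.K902.NodalLci
import Groth.Agent.CurvSt.K902.SmStack
import Groth.Agent.Smoothing.K359.SynLift
import Groth.Agent.CurvSt.K898.SmoothRel
import Groth.Agent.S9758
import Groth.Agent.S9699
import Groth.Agent.AlgSp.K597.LocP

/-!
# Smoothness of the stacks of smooth, nodal, prestable curves (S17185, S17187, S17190, S17301), modulo local finite presentation
-/

set_option autoImplicit false

universe u

open CategoryTheory CategoryTheory.Limits AlgebraicGeometry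

namespace K902.CurvRows

open CurvSt AlgSp K901.GeomFibAt K901.GeomLoc K901.EtSch K901.Loci K901.SchLoc K901.SchPre K902.SchSet
  K899.OpenCrit K901.LocusOpen K902.SchInst K902.SmStack
open Groth.Agent

variable {S : Scheme.{u}}

theorem isLCIMor_of_nodal (A : (Curves S 0).obj) (h : LocP nodalFam A.obj.f) : IsLCIMor A.obj.f := by
  refine K597.locP_mono (fun X Y f hf => ?_) h
  have h1 : Flat f := hf.1
  have h2 : LocallyOfFinitePresentation f := hf.2.1
  exact fun x => K902.NodalLci.isKoszulAt_of_nodalAt f x ((isNodalFamily_iff f).1 hf x)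

theorem finite_of_nodal (A : (Curves S 0).obj) (h : LocP nodalFam A.obj.f) : GeomFib (fun _ _ _ X' q _ =>
            Set.Finite {x : ↥X' | ¬ ∃ U : X'.Opens, x ∈ U ∧ Smooth (U.ι ≫ q)}) A.obj := by
  intro Ω _ _ t X' q i sq
  obtain ⟨f1, f2, f3, f4⟩ := K901.SchFib.facts A.property sq
  have f2' : IsProper q := f2
  exact K902.NodalLci.finite_nonsmooth q ((isNodalFamily_iff q).2 ((locP_nodal_iff A.property).1 h Ω t X' q i sq))

theorem isLCIMor_of_smooth (A : (Curves S 0).obj) (h : LocP @Smooth A.obj.f) : IsLCIMor A.obj.f := by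
  refine K597.locP_mono (fun X Y f hf => ?_) h
  have h1 : Smooth f := hf
  exact ((Groth.Agent.S9758.result f).2 (Groth.Agent.S9699.result f)).2

theorem locP_smooth_iff (A : (Curves S 0).obj) :
    LocP @Smooth A.obj.f ↔ LocP (Everywhere SmoothAt) A.obj.f := by
  have h1 : (@Smooth : MorphismProperty Scheme.{u}) = Everywhere SmoothAt := by
    funext X Y f
    exact propext (K898.SmoothRel.smooth_iff f)
  rw [h1]

theorem finite_of_smooth (A : (Curves S 0).obj) (h : LocP @Smooth A.obj.f) : GeomFib (fun _ _ _ X' q _ =>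
            Set.Finite {x : ↥X' | ¬ ∃ U : X'.Opens, x ∈ U ∧ Smooth (U.ι ≫ q)}) A.obj := by
  intro Ω _ _ t X' q i sq
  have h1 := (geomFib_iff_locP locusProp_smooth A.obj A.property (EtSchFin.hasSchFibres A.property)).2
    ((locP_smooth_iff A).1 h) Ω t X' q i sq
  convert Set.finite_empty
  ext x
  refine iff_of_false (fun h2 => h2 (h1 x)) (Set.notMem_empty x)

/-- Smoothness of an open substack of the stack of nodal curves. -/
theorem smooth_of_nodal (hC : AlgSt.IsAlgStack Scheme.fppfPrecoverage (Curves S 0))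
    (hlfp : AlgSt.LocQ (LocP @LocallyOfFinitePresentation) (FibCat.toSelf (Curves S 0)))
    {Q : (Curves S 0).obj → Prop} (hQ : HasOpenLocus (𝒳 := Curves S 0) Q)
    (h : ∀ A, Q A → LocP nodalFam A.obj.f) :
    AlgSt.LocQ (LocP @Smooth) (FibCat.toSelf (AlgSt.fullSub (Curves S 0) Q)) :=
  K902.SmStack.main K359.SynLift.main (EtSchFin.hLoc S) hC hlfp hQ
    (fun A hA => isLCIMor_of_nodal A (h A hA)) (fun A hA => finite_of_nodal A (h A hA))

section Rows

variable (S) (hC : AlgSt.IsAlgStack Scheme.fppfPrecoverage (CurvSt.Curves S 0))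
    (hlfp : AlgSt.LocQ (LocP @LocallyOfFinitePresentation) (FibCat.toSelf (Curves S 0)))

include hC hlfp

theorem s17185 : AlgSt.LocQ (AlgSp.LocP @Smooth)
      (FibCat.toSelf (AlgSt.fullSub (CurvSt.Curves S 0) (fun A => AlgSp.LocP @Smooth A.obj.f))) :=
  K902.SmStack.main K359.SynLift.main (EtSchFin.hLoc S) hC hlfp
    (hasOpenLocus_of_iff locusProp_smooth locP_smooth_iff) isLCIMor_of_smooth finite_of_smooth

theorem s17187 :
    AlgSt.LocQ (AlgSp.LocP @Smooth) (FibCat.toSelf (AlgSt.fullSub (CurvSt.Curves S 0)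
      (fun A => AlgSp.LocP CurvSt.nodalFam A.obj.f))) :=
  smooth_of_nodal hC hlfp (hasOpenLocus_nodal S 0) fun _ h => h

theorem s17190 :
    (AlgSt.LocQ (AlgSp.LocP @Smooth) (FibCat.toSelf (AlgSt.fullSub (CurvSt.Curves S 0)
        (fun A => CurvSt.SpIsPrestable A.obj))) ∧
      ∀ (Ω : Type u) [Field Ω] [IsAlgClosed Ω] (t : Spec (CommRingCat.of Ω) ⟶ S),
        Nonempty ((AlgSt.fullSub (CurvSt.Curves S 0) (fun A => CurvSt.SpIsPrestable A.obj)).p.Fiber (Over.mk t))) ∧
    ∀ g : ℕ, AlgSt.LocQ (AlgSp.LocP @Smooth) (FibCat.toSelf (AlgSt.fullSub (CurvSt.Curves S 0)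
        (fun A => CurvSt.SpIsPrestable A.obj ∧ CurvSt.SpHasGenus A.obj g))) ∧
      ∀ (Ω : Type u) [Field Ω] [IsAlgClosed Ω] (t : Spec (CommRingCat.of Ω) ⟶ S),
        Nonempty ((AlgSt.fullSub (CurvSt.Curves S 0)
          (fun A => CurvSt.SpIsPrestable A.obj ∧ CurvSt.SpHasGenus A.obj g)).p.Fiber (Over.mk t)) :=
  ⟨⟨smooth_of_nodal hC hlfp (hasOpenLocus_prestable S 0) fun _ h => h.1, (s17188 S hC).2⟩,
    fun g => ⟨smooth_of_nodal hC hlfp (hasOpenLocus_prestable_genus S 0 g) fun _ h => h.1.1, (s17189 S hC g).2⟩⟩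

end Rows

end K902.CurvRows
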