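import Mathlib.Topology.KrullDimension
import Mathlib.Topology.NoetherianSpace
import Mathlib.AlgebraicGeometry.Morphisms.Smooth
import Mathlib.AlgebraicGeometry.Morphisms.Proper
import Mathlib.AlgebraicGeometry.Fiber
import Groth.Agent.GrpQ.H770.LocQS
import Groth.Prelude.Def_RelProj

/-!
# Covering a curve over a local ring by two affine opens meeting in the smooth locus
-/

set_option autoImplicit false

universe u

open CategoryTheory CategoryTheory.Limits AlgebraicGeometry TopologicalSpace

namespace K902.CurveCover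

section top

variable {Y : Type*} [TopologicalSpace Y] [QuasiSober Y] [T0Space Y]

/-- A closed subset of a Noetherian space of dimension at most one which contains no generic point of an irreducible
component is finite. -/
theorem finite_of_isClosed [NoetherianSpace Y] (hdim : topologicalKrullDim Y ≤ 1) (C : Set Y) (hC : IsClosed C)
    (h : ∀ c ∈ C, closure {c} ∉ irreducibleComponents Y) : C.Finite := by
  obtain ⟨S, hS, hcl, hirr, hCS⟩ := NoetherianSpace.exists_finite_set_isClosed_irreducible hC
  have key : ∀ t ∈ S, ∃ c : Y, t ⊆ {c} := by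
    intro t ht
    obtain ⟨c, hc⟩ := QuasiSober.sober (hirr t ht) (hcl t ht)
    refine ⟨c, fun x hx => ?_⟩
    by_contra hxc
    have hct : closure {c} = t := hc.def
    have hcC : c ∈ C := by rw [hCS]; exact ⟨t, ht, by rw [← hct]; exact subset_closure rfl⟩
    obtain ⟨Z, hZ, hZc⟩ := exists_mem_irreducibleComponents_subset_of_isIrreducible (closure {c})
      isIrreducible_singleton.closure
    have hZcl : IsClosed Z := isClosed_of_mem_irreducibleComponents Z hZ
    let a : IrreducibleCloseds Y := ⟨closure {x}, isIrreducible_singleton.closure, isClosed_closure⟩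
    let b : IrreducibleCloseds Y := ⟨closure {c}, isIrreducible_singleton.closure, isClosed_closure⟩
    let z : IrreducibleCloseds Y := ⟨Z, hZ.1, hZcl⟩
    have hab : a < b := by
      refine lt_of_le_of_ne ?_ ?_
      · change closure {x} ⊆ closure {c}
        exact closure_minimal (Set.singleton_subset_iff.2 (by rw [hct]; exact hx)) isClosed_closure
      · intro e
        have e' : closure {x} = closure {c} := congrArg (fun q : IrreducibleCloseds Y => (q : Set Y)) e
        apply hxc
        exact (inseparable_iff_closure_eq.2 e').eq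
    have hbz : b < z := by
      refine lt_of_le_of_ne hZc ?_
      intro e
      have e' : closure {c} = Z := congrArg (fun q : IrreducibleCloseds Y => (q : Set Y)) e
      exact h c hcC (e' ▸ hZ)
    let p : LTSeries (IrreducibleCloseds Y) := ⟨2, ![a, b, z], by
      intro i
      fin_cases i
      · exact hab
      · exact hbz⟩
    have := (Order.LTSeries.length_le_krullDim p).trans hdim
    change ((2 : ℕ) : WithBot ℕ∞) ≤ 1 at this
    exact absurd this (by decide)
  rw [hCS, Set.sUnion_eq_biUnion]
  refine hS.biUnion fun t ht => ?_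
  obtain ⟨c, hc⟩ := key t ht
  exact (Set.finite_singleton c).subset hc

end top

/-- A projective scheme over a local ring whose closed fibre has dimension at most one and only finitely many non-smooth
points is covered by two affine opens, the second one contained in the smooth locus. -/
theorem exists_cover {A : CommRingCat.{u}} [IsLocalRing A] {X : Scheme.{u}} (f : X ⟶ Spec A) [IsProper f]
    [LocallyOfFinitePresentation f] (hf : RelProj.IsHProjective f)
    (hdim : topologicalKrullDim (f.fiber (IsLocalRing.closedPoint A)) ≤ 1)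
    (hns : {x : X | f x = IsLocalRing.closedPoint A ∧ x ∉ f.smoothLocus}.Finite) :
    ∃ U₁ U₂ : X.Opens, IsAffineOpen U₁ ∧ IsAffineOpen U₂ ∧ U₁ ⊔ U₂ = ⊤ ∧ IsAffineOpen (U₁ ⊓ U₂) ∧
      U₂ ≤ f.smoothLocus := by
  set s := IsLocalRing.closedPoint A with hs
  obtain ⟨n, i, hi, hif⟩ := hf
  have := hi
  have hn1 : IsLocallyNoetherian (f.fiber s) := by
    have : IsLocallyNoetherian (Spec ((Spec A).residueField s)) := inferInstance
    have : LocallyOfFiniteType (f.fiberToSpecResidueField s) := MorphismProperty.pullback_snd _ _ inferInstance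
    exact LocallyOfFiniteType.isLocallyNoetherian (f.fiberToSpecResidueField s)
  have hn2 : CompactSpace (f.fiber s) := inferInstance
  have hn3 : IsNoetherian (f.fiber s) := {}
  have hsc : IsClosed ({s} : Set (Spec A)) := IsLocalRing.isClosed_singleton_closedPoint A
  have hrange : Set.range (f.fiberι s) = f ⁻¹' {s} := f.range_fiberι s
  have hemb : Topology.IsEmbedding (f.fiberι s) := (f.fiberι s).isEmbedding
  -- generic points of the fibre
  let G : Set (f.fiber s) := {y | closure {y} ∈ irreducibleComponents (f.fiber s)}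
  have hG : G.Finite := by
    refine Set.Finite.of_finite_image (f := fun y => closure ({y} : Set (f.fiber s))) ?_ ?_
    · exact (NoetherianSpace.finite_irreducibleComponents (α := f.fiber s)).subset (by rintro _ ⟨y, hy, rfl⟩; exact hy)
    · intro y _ z _ hyz
      exact (inseparable_iff_closure_eq.2 hyz).eq
  let F₁ : Set X := {x : X | f x = s ∧ x ∉ f.smoothLocus} ∪ f.fiberι s '' G
  have hF₁ : F₁.Finite := hns.union (hG.image _)
  have hF₁s : ∀ x ∈ F₁, f x = s := by
    rintro x (hx | ⟨y, -, rfl⟩)
    · exact hx.1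
    · have : f.fiberι s y ∈ Set.range (f.fiberι s) := ⟨y, rfl⟩
      rw [hrange] at this
      exact this
  have hloc : ∀ (T : Set X), T.Finite → (∀ x ∈ T, f x = s) → ∀ O : X.Opens, T ⊆ O →
      ∃ B : X.Opens, IsAffineOpen B ∧ T ⊆ B ∧ B ≤ O := fun T hT _ O hO =>
    Groth.Agent.GrpQ.H770.LocQS.exists_affine_of_finite i ⊤ (isAffineOpen_top _) T hT (fun _ _ => trivial) O hO
  obtain ⟨U₁, hU₁, hFU, -⟩ := hloc F₁ hF₁ hF₁s ⊤ (Set.subset_univ _)
  -- the rest of the fibre
  let C : Set (f.fiber s) := (f.fiberι s ⁻¹' (U₁ : Set X))ᶜ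
  have hC : IsClosed C := (U₁.isOpen.preimage (f.fiberι s).continuous).isClosed_compl
  have hCf : C.Finite := finite_of_isClosed hdim C hC fun c hc hcG =>
    hc (hFU (Or.inr ⟨c, hcG, rfl⟩))
  have hCs : f.fiberι s '' C ⊆ f.smoothLocus := by
    rintro _ ⟨c, hc, rfl⟩
    by_contra hx
    have hcs : f (f.fiberι s c) = s := by
      have : f.fiberι s c ∈ Set.range (f.fiberι s) := ⟨c, rfl⟩
      rw [hrange] at this
      exact this
    exact hc (hFU (Or.inl ⟨hcs, hx⟩))
  obtain ⟨U₂, hU₂, hCU, hU₂s⟩ := hloc (f.fiberι s '' C) (hCf.image _) (by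
    rintro _ ⟨c, hc, rfl⟩
    have : f.fiberι s c ∈ Set.range (f.fiberι s) := ⟨c, rfl⟩
    rw [hrange] at this
    exact this) f.smoothLocus hCs
  refine ⟨U₁, U₂, hU₁, hU₂, ?_, ?_, hU₂s⟩
  · by_contra hne
    have hcl : IsClosed (f '' ((U₁ ⊔ U₂ : X.Opens) : Set X)ᶜ) :=
      f.isClosedMap _ (U₁ ⊔ U₂).isOpen.isClosed_compl
    have hnonempty : (f '' ((U₁ ⊔ U₂ : X.Opens) : Set X)ᶜ).Nonempty := by
      rw [Set.image_nonempty, Set.nonempty_compl]
      intro e
      exact hne (TopologicalSpace.Opens.ext (by rw [e]; rfl))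
    obtain ⟨x, hx, hxs⟩ : s ∈ f '' ((U₁ ⊔ U₂ : X.Opens) : Set X)ᶜ := by
      obtain ⟨y, hy⟩ := hnonempty
      exact (IsLocalRing.specializes_closedPoint y).mem_closed hcl hy
    have hx' : x ∈ Set.range (f.fiberι s) := by rw [hrange]; exact hxs
    obtain ⟨y, rfl⟩ := hx'
    apply hx
    by_cases hy : y ∈ C
    · exact Or.inr (hCU ⟨y, hy, rfl⟩)
    · exact Or.inl (not_not.1 hy)
  · have : IsSeparated f := inferInstance
    have h1 : IsAffineHom (pullback.diagonal f) := inferInstance
    exact isAffineHom_diagonal_iff.1 h1 ⊤ (isAffineOpen_top _) U₁ (fun _ _ => trivial) U₂ (fun _ _ => trivial) hU₁ hU₂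

end K902.CurveCover
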