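import Groth.Agent.CurvSt.K902.LocSch
import Groth.Agent.S1342
import Groth.Agent.S3626
import Groth.Agent.S3627
import Groth.Agent.Flat2D.CMFlatArt
import Groth.Agent.Flat2D.FiberStalk
import Mathlib.AlgebraicGeometry.Morphisms.Etale
import Mathlib.AlgebraicGeometry.Morphisms.FormallyUnramified

/-!
Etale locality on source and target of Cohen-Macaulay and Gorenstein morphisms of schemes.
-/

set_option autoImplicit false
universe u

open CategoryTheory CategoryTheory.Limits AlgebraicGeometry Opposite IsLocalRing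

namespace K902.CMEt

lemma map_maximalIdeal_of_etale {X Y : Scheme.{u}} (f : X ⟶ Y) [Etale f] (x : X) :
    (maximalIdeal (Y.presheaf.stalk (f x))).map (f.stalkMap x).hom =
      maximalIdeal (X.presheaf.stalk x) := by
  algebraize [(f.stalkMap x).hom]
  have : IsLocalHom (algebraMap (Y.presheaf.stalk (f x)) (X.presheaf.stalk x)) :=
    inferInstanceAs <| IsLocalHom (f.stalkMap x).hom
  have : Algebra.EssFiniteType (Y.presheaf.stalk (f x)) (X.presheaf.stalk x) := by
    rw [← RingHom.essFiniteType_algebraMap, RingHom.algebraMap_toAlgebra]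
    exact LocallyOfFiniteType.stalkMap f x
  have : Algebra.FormallyUnramified (Y.presheaf.stalk (f x)) (X.presheaf.stalk x) := by
    rw [← RingHom.formallyUnramified_algebraMap, RingHom.algebraMap_toAlgebra]
    exact FormallyUnramified.stalkMap f x
  exact Algebra.FormallyUnramified.map_maximalIdeal

theorem noeth_fibre {X Y : Scheme.{u}} (f : X ⟶ Y) [LocallyOfFiniteType f] (y : Y) :
    IsLocallyNoetherian (f.fiber y) := by
  have : LocallyOfFiniteType (f.fiberToSpecResidueField y) :=
    inferInstanceAs (LocallyOfFiniteType (pullback.snd f (Y.fromSpecResidueField y)))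
  exact LocallyOfFiniteType.isLocallyNoetherian (f.fiberToSpecResidueField y)

/-- Cohen-Macaulay at a point is stable under precomposition with etale morphisms. -/
theorem isCMAt_etale_comp {U X Y : Scheme.{u}} (a : U ⟶ X) [Etale a] (f : X ⟶ Y)
    [LocallyOfFiniteType f] (u : U) (h : MoreMor.IsCMAt f (a u)) : MoreMor.IsCMAt (a ≫ f) u := by
  rw [Groth.Agent.Flat2D.FiberStalk.moreMor_isCMAt_iff] at h ⊢
  obtain ⟨h1, h2⟩ := h
  have hcomp : (a ≫ f).stalkMap u = f.stalkMap (a u) ≫ a.stalkMap u := Scheme.Hom.stalkMap_comp a f u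
  have hflat : (a.stalkMap u).hom.Flat := Flat.stalkMap a u
  refine ⟨?_, ?_⟩
  · rw [hcomp]
    exact h1.comp hflat
  · let R := X.presheaf.stalk (a u)
    let T := U.presheaf.stalk u
    algebraize [(a.stalkMap u).hom]
    have : IsLocalHom (algebraMap R T) := inferInstanceAs <| IsLocalHom (a.stalkMap u).hom
    let I : Ideal R := Ideal.map (f.stalkMap (a u)).hom (maximalIdeal (Y.presheaf.stalk (f (a u))))
    have hI : I ≤ maximalIdeal R := by
      have : IsLocalHom (f.stalkMap (a u)).hom := inferInstance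
      exact ((local_hom_TFAE (f.stalkMap (a u)).hom).out 0 2).1 this
    have hN : IsNoetherianRing (U.presheaf.stalk u ⧸ Ideal.map ((a ≫ f).stalkMap u).hom
        (maximalIdeal (Y.presheaf.stalk ((a ≫ f) u)))) :=
      Groth.Agent.S3627.noeth (a ≫ f) u (noeth_fibre (a ≫ f) _)
    have hmap : Ideal.map ((a ≫ f).stalkMap u).hom (maximalIdeal (Y.presheaf.stalk ((a ≫ f) u))) =
        I.map (algebraMap R T) := by
      rw [hcomp]
      exact (Ideal.map_map (f.stalkMap (a u)).hom (a.stalkMap u).hom).symm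
    rw [hmap] at hN ⊢
    have hA : IsArtinianRing (T ⧸ (maximalIdeal R).map (algebraMap R T)) := by
      have h3 : (maximalIdeal R).map (algebraMap R T) = maximalIdeal T :=
        map_maximalIdeal_of_etale a u
      rw [h3]
      let := Ideal.Quotient.field (maximalIdeal T)
      infer_instance
    exact Groth.Agent.Flat2D.CMFlatArt.isCM_quot_of_isArtinian_fibre R T hI h2

/-- An etale morphism is Gorenstein at every point. -/
theorem isGorensteinAt_of_etale {U X : Scheme.{u}} (a : U ⟶ X) [Etale a] (u : U) :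
    Dual3.IsGorensteinAt a u := by
  refine ⟨Flat.stalkMap a u, ?_⟩
  rw [Groth.Agent.S3627.gor_iff]
  rw [map_maximalIdeal_of_etale a u]
  let := Ideal.Quotient.field (maximalIdeal (U.presheaf.stalk u))
  exact Groth.Agent.LoccohA.GorBC.isGorensteinLocalRing_of_field _

theorem isGorensteinAt_etale_comp {U X Y : Scheme.{u}} (a : U ⟶ X) [Etale a] (f : X ⟶ Y)
    [LocallyOfFiniteType f] (u : U) (h : Dual3.IsGorensteinAt f (a u)) :
    Dual3.IsGorensteinAt (a ≫ f) u :=
  (Groth.Agent.S3627.result U X Y a f (noeth_fibre a) (noeth_fibre f) (noeth_fibre (a ≫ f)) u).1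
    (isGorensteinAt_of_etale a u) h

/-- The morphism property "flat, locally of finite presentation, Cohen-Macaulay at every point". -/
def CMMor : MorphismProperty Scheme.{u} := fun _ _ f =>
  Flat f ∧ LocallyOfFinitePresentation f ∧ ∀ x, MoreMor.IsCMAt f x

/-- The morphism property "flat, locally of finite presentation, Gorenstein at every point". -/
def GorMor : MorphismProperty Scheme.{u} := fun _ _ f =>
  Flat f ∧ LocallyOfFinitePresentation f ∧ ∀ x, Dual3.IsGorensteinAt f x

theorem cmMor_baseChange {X Y X' Y' : Scheme.{u}} (f : X ⟶ Y) (f' : X' ⟶ Y') (g' : X' ⟶ X)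
    (g : Y' ⟶ Y) (h : IsPullback g' f' f g) (hf : CMMor f) : CMMor f' := by
  obtain ⟨h1, h2, h3⟩ := hf
  refine ⟨MorphismProperty.of_isPullback h h1, MorphismProperty.of_isPullback h h2, fun x' => ?_⟩
  have := Groth.Agent.S1342.result f f' g' g h
  have h4 : x' ∈ g' ⁻¹' {x : X | MoreMor.IsCMAt f x} := h3 _
  rw [← this] at h4
  exact h4

theorem cmMor_etale_comp {U X Y : Scheme.{u}} (a : U ⟶ X) (f : X ⟶ Y) (ha : Etale a)
    (hf : CMMor f) : CMMor (a ≫ f) := by
  obtain ⟨h1, h2, h3⟩ := hf
  exact ⟨inferInstance, inferInstance, fun u => isCMAt_etale_comp a f u (h3 _)⟩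

theorem gorMor_baseChange {X Y X' Y' : Scheme.{u}} (f : X ⟶ Y) (f' : X' ⟶ Y') (g' : X' ⟶ X)
    (g : Y' ⟶ Y) (h : IsPullback g' f' f g) (hf : GorMor f) : GorMor f' := by
  obtain ⟨h1, h2, h3⟩ := hf
  exact ⟨MorphismProperty.of_isPullback h h1, MorphismProperty.of_isPullback h h2, fun x' =>
    (Groth.Agent.S3626.result X Y X' Y' f g f' g' h x').2 (h3 _)⟩

theorem gorMor_etale_comp {U X Y : Scheme.{u}} (a : U ⟶ X) (f : X ⟶ Y) (ha : Etale a)
    (hf : GorMor f) : GorMor (a ≫ f) := by
  obtain ⟨h1, h2, h3⟩ := hf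
  exact ⟨inferInstance, inferInstance, fun u => isGorensteinAt_etale_comp a f u (h3 _)⟩

variable {S : Scheme.{u}}

/-- For a flat morphism of schemes locally of finite presentation, Cohen-Macaulay at every point: the same etale locally on
every chart diagram. -/
theorem locP_cmMor {X Y : Over S} (f : X ⟶ Y) (hf : CMMor f.left) :
    AlgSp.LocP CMMor ((AlgSp.yon S).map f) :=
  K902.LocSch.locP_yon_map_of CMMor CMMor (fun f f' g' g h _ hf => cmMor_baseChange f f' g' g h hf)
    cmMor_etale_comp f hf

theorem locP_gorMor {X Y : Over S} (f : X ⟶ Y) (hf : GorMor f.left) :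
    AlgSp.LocP GorMor ((AlgSp.yon S).map f) :=
  K902.LocSch.locP_yon_map_of GorMor GorMor (fun f f' g' g h _ hf => gorMor_baseChange f f' g' g h hf)
    gorMor_etale_comp f hf

end K902.CMEt
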