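import Groth.Agent.CurvSt.K902.EtSchFin
import Groth.Agent.CurvSt.K901.SchRed
import Groth.Agent.CurvSt.K901.LociCMGor

/-!
# Families of curves with reduced geometric fibres are Cohen-Macaulay (S17303)
-/

set_option autoImplicit false

universe u

open CategoryTheory CategoryTheory.Limits AlgebraicGeometry

namespace K902.CMRed

open CurvSt AlgSp K901.GeomFibAt K901.GeomLoc K901.EtSch K901.Loci K901.SchLoc K901.SchRed
open Groth.Agent

theorem isCMAt_of_isReduced {Ω : Type u} [Field Ω] [IsAlgClosed Ω] {X : Scheme.{u}}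
    (q : X ⟶ Spec (CommRingCat.of Ω)) [IsProper q] (hr : IsReduced X)
    (hd : ∀ x, FlatMor.fibreDimAt q x ≤ ((1 : ℕ) : WithBot ℕ∞)) (x : X) : MoreMor.IsCMAt q x := by
  have hred : GeometricallyReduced q := by
    have h8 : ∀ x, GeomRed q x := (geomRed_iff_isReduced q).2 hr
    refine ⟨fun K _ y Z fst snd hZ => ?_⟩
    have h1 : ∀ z : Z, _root_.IsReduced (Z.presheaf.stalk z) := fun z => h8 (fst z) K Z _ _ _ hZ z rfl
    exact isReduced_of_isReduced_stalk Z
  have hX : topologicalKrullDim X ≤ 1 := by
    rw [K284.TopDim.dim_eq_iSup_localDim]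
    refine iSup_le fun x => ?_
    rw [← fibreDimAt_field q x]
    exact (hd x).trans (le_of_eq rfl)
  have hN : IsNoetherian X := CurvesB.NodalFibreH.isNoetherian_of_isProper Ω X q
  refine ⟨Flat.stalkMap q x, ?_⟩
  have h1 : IsProper (q.fiberToSpecResidueField (q x)) :=
    MorphismProperty.pullback_snd (P := @IsProper) q ((Spec (CommRingCat.of Ω)).fromSpecResidueField (q x)) inferInstance
  have h2 : IsNoetherian (q.fiber (q x)) :=
    @CurvesB.NodalFibreH.isNoetherian_of_isProper ((Spec (CommRingCat.of Ω)).residueField (q x)) _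
      (q.fiber (q x)) (q.fiberToSpecResidueField (q x)) h1
  have h3 : IsReduced (q.fiber (q x)) := inferInstance
  have h4 : topologicalKrullDim (q.fiber (q x)) ≤ 1 :=
    (q.fiberι (q x)).isEmbedding.isInducing.topologicalKrullDim_le.trans hX
  exact cm_of_reduced _ ((CurvesB.DimPts.ringKrullDim_stalk_le _).trans h4)

/-- The statement S17303 (for families with any number of marked points). -/
theorem s17303 {S : Scheme.{u}} {n : ℕ} {A : SpFamObj S n} (hA : IsCurveFam A)
    (h : GeomFib (fun _ _ _ X' _ _ => IsReduced X') A) :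
    LocP (fun _ _ g => ∀ x, MoreMor.IsCMAt g x) A.f := by
  refine (geomFib_iff_locP locusProp_cm A hA (EtSchFin.hasSchFibres hA)).1 fun Ω _ _ t X' q i sq => ?_
  obtain ⟨f1, f2, f3, f4⟩ := K901.SchFib.facts hA sq
  have f2' : IsProper q := f2
  exact isCMAt_of_isReduced q (h Ω t X' q i sq) f4

end K902.CMRed
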