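import Groth.Agent.AlgSt.K745.Lift
import Groth.Agent.S10629
import Groth.Agent.AlgSp.K635.InfLift
import Groth.Agent.IsoNat.K862.Yon

/-!
# Infinitesimal lifting for smooth charts of stacks
-/

set_option autoImplicit false
set_option backward.isDefEq.respectTransparency false
set_option backward.isDefEq.respectTransparency.types false

universe v₂ u₂ u

open CategoryTheory CategoryTheory.Limits AlgebraicGeometry Opposite K735.Fib K735.Fp K735.Rep K745.Lift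

namespace K902.ChartLift

variable {S : Scheme.{u}}

/-- Functors `(Sch/T) ⟶ (Sch/U)` over `(Sch/S)` are given by morphisms `T ⟶ U`. -/
theorem exists_overMap {T U : Over S} (Φ : FibCat.overCat T ⥤ᵇ FibCat.overCat U) :
    ∃ g : T ⟶ U, Nonempty (Φ ≅ AlgSt.overMap g) := by
  obtain ⟨i⟩ := exists_iso_spMapOfOver (BasedFunctor.comp (AlgSt.toOverCat T) Φ)
  obtain ⟨g, hg⟩ := (AlgSp.yon S).map_surjective (AlgSt.spMapOfOver (BasedFunctor.comp (AlgSt.toOverCat T) Φ))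
  rw [← hg] at i
  exact ⟨g, ⟨(whiskerLeftIso (AlgSt.ofOverCat T) i : Φ ≅ _)⟩⟩

theorem eq_of_overMap_iso {T U : Over S} {g g' : T ⟶ U} (i : AlgSt.overMap g ≅ AlgSt.overMap g') : g = g' := by
  apply (AlgSp.yon S).map_injective
  rw [← spMapOfOver_overMap, ← spMapOfOver_overMap]
  exact spMapOfOver_eq_of_iso (whiskerLeftIso (AlgSt.toOverCat T) i)

theorem nonempty_overMap_id (T : Over S) : Nonempty (AlgSt.overMap (𝟙 T) ≅ BasedFunctor.id _) := by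
  obtain ⟨i⟩ := exists_iso_spMapOfOver (AlgSt.toOverCat T)
  rw [spMapOfOver_toOverCat, ← (AlgSp.yon S).map_id] at i
  exact ⟨(whiskerLeftIso (AlgSt.ofOverCat T) i.symm : AlgSt.overMap (𝟙 T) ≅ _)⟩

/-- **Infinitesimal lifting.** A smooth chart of a stack has the lifting property for first order thickenings of affine
schemes. -/
theorem exists_lift_chart {𝒳 : BasedCategory.{v₂, u₂} (Over S)} {U : Over S} (x : FibCat.overCat U ⥤ᵇ 𝒳)
    (hx : AlgSt.RepByAlgSpWith (AlgSp.LocP @Smooth) x) {T₀ T : Over S} (j : T₀ ⟶ T) [IsAffine T.left]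
    (hj : MoreMor.IsFirstOrderThickening j.left) (g₀ : T₀ ⟶ U) (y : FibCat.overCat T ⥤ᵇ 𝒳)
    (i : BasedFunctor.comp (AlgSt.overMap g₀) x ≅ BasedFunctor.comp (AlgSt.overMap j) y) :
    ∃ g : T ⟶ U, j ≫ g = g₀ ∧ Nonempty (BasedFunctor.comp (AlgSt.overMap g) x ≅ y) := by
  obtain ⟨F, e, he, hs⟩ := hx T y
  obtain ⟨s, hs1, ⟨hs2⟩⟩ := exists_sec_of_iso e he j (AlgSt.overMap g₀) i
  have hfs : AlgSp.IsFormallySmoothMor (q e) :=
    ((Groth.Agent.S10629.result (X := F) (Y := ⟨(AlgSp.yon S).obj T, AlgSp.IsAlgSpace.yon_obj T⟩)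
      (ObjectProperty.homMk (q e))).1 hs).2
  obtain ⟨l, hl1, hl2⟩ := K635.InfLift.exists_lift hfs j hj s (𝟙 _) (by rw [hs1, Category.comp_id])
  obtain ⟨g, ⟨ig⟩⟩ := exists_overMap (liftOfSec e l)
  refine ⟨g, ?_, ?_⟩
  · obtain ⟨c⟩ := exists_overMapComp j g
    apply eq_of_overMap_iso
    refine c.symm ≪≫ whiskerLeftIso (AlgSt.overMap j) ig.symm ≪≫ ?_ ≪≫ hs2
    have h1 : liftOfSec e s = liftOfSec e ((AlgSp.yon S).map j ≫ l) := by rw [hl1]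
    rw [h1]
    exact Iso.refl _
  · obtain ⟨k⟩ := nonempty_iso_of_sec e (𝟙 T) l (by rw [hl2, (AlgSp.yon S).map_id])
    obtain ⟨c⟩ := nonempty_overMap_id T
    exact ⟨whiskerRightIso ig.symm x ≪≫ k ≪≫ whiskerRightIso c y⟩

open K862.Fib K862.Yon

/-- The object form of the infinitesimal lifting property of smooth charts: if an object `A` over `T` restricts to the
pullback `A₀` of the object of the chart along `g₀ : T₀ ⟶ U`, then `g₀` extends to `T`. -/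
theorem exists_lift_obj {𝒳 : BasedCategory.{v₂, u₂} (Over S)} [FibCat.IsFibGrpd 𝒳.p] {U : Over S}
    (x : FibCat.overCat U ⥤ᵇ 𝒳) (hx : AlgSt.RepByAlgSpWith (AlgSp.LocP @Smooth) x) {T₀ T : Over S} (j : T₀ ⟶ T)
    [IsAffine T.left] (hj : MoreMor.IsFirstOrderThickening j.left) (g₀ : T₀ ⟶ U) (A₀ : 𝒳.obj) (A : 𝒳.p.Fiber T)
    (φ : A₀ ⟶ (objOf x).1) [hφ : 𝒳.p.IsHomLift g₀ φ] (ψ : A₀ ⟶ A.1) [hψ : 𝒳.p.IsHomLift j ψ] :
    ∃ g : T ⟶ U, j ≫ g = g₀ := by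
  let A₀' : 𝒳.p.Fiber T₀ := ⟨A₀, IsHomLift.domain_eq 𝒳.p g₀ φ⟩
  have h1 : 𝒳.p.IsHomLift g₀ (arrAt x (𝟙 T₀ ≫ g₀)) := by
    have := arrAt_isHomLift x (𝟙 T₀ ≫ g₀)
    rwa [Category.id_comp] at this
  have h2 : 𝒳.p.IsHomLift j (arrAt (ofObj A) (𝟙 T₀ ≫ j) ≫ (objOfOfObj A).1) := by
    have h4 : 𝒳.p.IsHomLift j (arrAt (ofObj A) (𝟙 T₀ ≫ j)) := by
      have := arrAt_isHomLift (ofObj A) (𝟙 T₀ ≫ j)
      rwa [Category.id_comp] at this
    have h3 := (objOfOfObj A).2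
    exact IsHomLift.comp_lift_id_right 𝒳.p j _ _
  let α₁ : objOf (BasedFunctor.comp (AlgSt.overMap g₀) x) ⟶ A₀' :=
    cmpHom g₀ (x := objOf x) (x' := objOf (BasedFunctor.comp (AlgSt.overMap g₀) x)) (x'' := A₀')
      (arrAt x (𝟙 T₀ ≫ g₀)) φ
  let α₂ : A₀' ⟶ objOf (BasedFunctor.comp (AlgSt.overMap j) (ofObj A)) :=
    cmpHom j (x := A) (x' := A₀') (x'' := objOf (BasedFunctor.comp (AlgSt.overMap j) (ofObj A)))
      ψ (arrAt (ofObj A) (𝟙 T₀ ≫ j) ≫ (objOfOfObj A).1)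
  obtain ⟨g, hg, -⟩ := exists_lift_chart x hx j hj g₀ (ofObj A) (isoOf (α₁ ≫ α₂))
  exact ⟨g, hg⟩

end K902.ChartLift
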