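import Groth.Agent.CurvSt.K902.EtSchRed
import Groth.Agent.CurvSt.K899.SchEt
import Groth.Agent.AlgSp.K608.GrpSch
import Groth.Agent.AlgSp.K608.SepAbs
import Groth.Agent.AlgSp.K609.QC
import Groth.Agent.AlgSp.K617.FinLoc
import Groth.Agent.S10043

/-!
# Curves over an affine scheme are schemes etale locally, modulo finite covers

`etSchCurves` : curves over an affine scheme `W` are schemes etale locally on `W`, if quasi-compact quasi-separated
algebraic spaces over `W` have finite surjective scheme covers (`FinCover W`, part of S10048).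
-/

set_option autoImplicit false

universe u

open CategoryTheory CategoryTheory.Limits AlgebraicGeometry Opposite AlgSp

namespace K902.EtSchW

open K595 K595.ChBase CurvSt K902.Slice K902.EtSchRed

/-- Quasi-compact quasi-separated algebraic spaces over `W` have finite surjective covers by schemes. -/
def FinCover (W : Scheme.{u}) : Prop :=
  ∀ X : AlgSp.Space W, IsQuasiCompactSp X.obj → IsQuasiSeparatedSp X.obj →
    ∃ (Y : Over W) (g : (yon W).obj Y ⟶ X.obj), IsFiniteMor g ∧ IsSurjectiveMor g

theorem isQuasiCompactSp_of_isProperMor {W : Scheme.{u}} [CompactSpace W] {X : Sp W} (h : IsProperMor (toPt X)) :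
    IsQuasiCompactSp X := by
  have hW : CompactSpace (Over.mk (𝟙 W)).left := ‹CompactSpace W›
  exact h.2.1.2 (IsAlgSpace.yon_obj _) (K596.QC.isQuasiCompactSp_yon (Over.mk (𝟙 W))) (𝟙 _) (𝟙 _) (toPt X)
    (IsPullback.of_horiz_isIso ⟨by rw [Category.id_comp, Category.comp_id]⟩)

theorem isQuasiSeparatedSp_of_isProperMor {W : Scheme.{u}} {X : Sp W} (h : IsProperMor (toPt X)) :
    IsQuasiSeparatedSp X := by
  refine K608.GrpSch.isQuasiSeparatedSp_of_isSeparatedSp
    (K608.SepAbs.isSeparatedSp_of_isSeparatedMor (toPt X) h.1 ?_)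
  rw [IsSeparatedSp, repWith_diag_yon_iff]
  change IsClosedImmersion (pullback.diagonal (𝟙 _))
  infer_instance

theorem chevalley (W : Scheme.{u}) : K899.FinalSp.Chevalley W :=
  fun f h1 h2 h3 => Groth.Agent.S10043.result W f h1 h2 h3

theorem etSchCurves {W : Scheme.{u}} [IsAffine W] (H : FinCover W) : EtSchCurves W := by
  intro X hX hc w
  obtain ⟨Z, z, hz, hzs⟩ := H ⟨X, hX⟩ (isQuasiCompactSp_of_isProperMor hc.proper)
    (isQuasiSeparatedSp_of_isProperMor hc.proper)
  have hz' : RepWith @IsFinite z :=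
    (K617.FinLoc.isFiniteMor_iff (f := z)).1 hz
  have hWa : IsAffine (Over.mk (𝟙 W)).left := ‹IsAffine W›
  obtain ⟨B1, π, b, h1, h2, h3, h4⟩ := K899.SchEt.main (X := ⟨X, hX⟩) (B := Over.mk (𝟙 W)) (chevalley W)
    (f := toPt X) hc.proper hz' hzs w (fun x _ => hc.dim x)
  have h5 : π = Over.mkIdTerminal.from B1 := Over.mkIdTerminal.hom_ext _ _
  subst h5
  have h6 : (Over.mkIdTerminal.from B1).left = B1.hom := by simp
  rw [h6] at h2 h3
  exact ⟨B1, b, h2, h3, h4⟩

end K902.EtSchW
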