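import Groth.Agent.CurvSt.K902.StSmooth
import Groth.Agent.CurvSt.K902.LociLci
import Groth.Agent.CurvSt.K901.LociSub
import Groth.Agent.CurvSt.K901.EtSch
import Groth.Agent.CurvSt.K899.CurveFam
import Groth.Agent.AlgSp.K639.Dim
import Groth.Agent.S9693

/-!
# Lifting the base change of a projective family of local complete intersection curves
-/

set_option autoImplicit false

universe u

open CategoryTheory CategoryTheory.Limits AlgebraicGeometry Opposite IsLocalRing

namespace K902.FamLift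

open K902.CurveLift K902.LiftGlue K901.Loci

/-- All geometric fibres have finitely many non-smooth points. -/
def NsFin {X V : Scheme.{u}} (q : X ⟶ V) : Prop :=
  ∀ (Ω : Type u) [Field Ω] [IsAlgClosed Ω] (t : Spec (CommRingCat.of Ω) ⟶ V) (Y : Scheme.{u}) (i : Y ⟶ X)
    (p : Y ⟶ Spec (CommRingCat.of Ω)), IsPullback i p q t → {y : Y | ¬ SmoothAt p y}.Finite

theorem finite_fiber {X V : Scheme.{u}} (q : X ⟶ V) [Flat q] [LocallyOfFinitePresentation q] (h : NsFin q) (v : V) :
    {x : X | q x = v ∧ x ∉ q.smoothLocus}.Finite := by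
  let Ω := AlgebraicClosure (V.residueField v)
  let t : Spec (CommRingCat.of Ω) ⟶ V :=
    Spec.map (CommRingCat.ofHom (algebraMap (V.residueField v) Ω)) ≫ V.fromSpecResidueField v
  have hpb := IsPullback.of_hasPullback q t
  refine ((h Ω t _ _ _ hpb).image (pullback.fst q t)).subset ?_
  rintro x ⟨hx, hxs⟩
  have ht : t (closedPoint Ω) = v := by
    rw [Scheme.Hom.comp_apply]
    have h1 : (V.fromSpecResidueField v) (Spec.map (CommRingCat.ofHom (algebraMap (V.residueField v) Ω))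
        (closedPoint Ω)) ∈ Set.range (V.fromSpecResidueField v) := ⟨_, rfl⟩
    rw [Scheme.range_fromSpecResidueField] at h1
    exact h1
  obtain ⟨y, hy, -⟩ := Scheme.exists_preimage_of_isPullback hpb x (closedPoint Ω) (by rw [hx, ht])
  refine ⟨y, ?_, hy⟩
  change ¬ SmoothAt (pullback.snd q t) y
  rw [locusProp_smooth.baseChange q (pullback.snd q t) (pullback.fst q t) t hpb y, hy]
  intro hs
  exact hxs ((K903.NonsmoothFin.mem_smoothLocus_iff_exists _ _).2 hs)

theorem nsFin_of_isPullback {X V X' V' : Scheme.{u}} {q : X ⟶ V} {q' : X' ⟶ V'} {a : X' ⟶ X} {b : V' ⟶ V}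
    (sq : IsPullback a q' q b) (h : NsFin q) : NsFin q' := by
  intro Ω _ _ t Y i p hp
  exact h Ω (t ≫ b) Y (i ≫ a) p (hp.paste_horiz sq)

/-- **Lifting of families of curves.** -/
theorem exists_lift_fam (H : SynLift.{u}) {V X' : Scheme.{u}} (q : X' ⟶ V) [Flat q] [IsProper q]
    [LocallyOfFinitePresentation q] (hproj : RelProj.IsHProjective q) (hdim : ∀ x, FlatMor.fibreDimAt q x ≤ 1)
    (hlci : ∀ x, Synt.IsKoszulAt q x) (hns : NsFin q) {A : Type u} [CommRing A] [IsLocalRing A] (I : Ideal A)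
    [IsLocalRing (A ⧸ I)] (hI : I ^ 2 = ⊥) (g₀ : Spec (CommRingCat.of (A ⧸ I)) ⟶ V) :
    ∃ (X : Scheme.{u}) (f : X ⟶ Spec (CommRingCat.of A)) (j : pullback q g₀ ⟶ X),
      IsPullback j (pullback.snd q g₀) f (Spec.map (CommRingCat.ofHom (Ideal.Quotient.mk I))) ∧ Flat f ∧ IsProper f ∧
      LocallyOfFinitePresentation f ∧ ∀ x, FlatMor.fibreDimAt f x ≤ 1 := by
  have hpb := IsPullback.of_hasPullback q g₀
  have hdim' : ∀ x, FlatMor.fibreDimAt (pullback.snd q g₀) x ≤ 1 := fun x => by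
    rw [K418.DimFlat.fibreDimAt_of_isPullback hpb x]
    exact hdim _
  have hlci' : ∀ x, Synt.IsKoszulAt (pullback.snd q g₀) x := fun x =>
    (K902.LociLci.locusProp_lci.baseChange q _ _ g₀ hpb x).2 (hlci _)
  obtain ⟨X, f, j, sq, hf⟩ := hasFlatLift_curve H I hI (pullback.snd q g₀) (Groth.Agent.S9693.result q hproj g₀) hlci'
    ((K639.Dim.dim_fiber_le_iff _ _ _).2 fun u _ => hdim' u)
    (finite_fiber _ (nsFin_of_isPullback hpb hns) _)
  obtain ⟨h1, h2, h3⟩ := facts_of_lift (isFirstOrderThickening_mk I hI) sq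
  exact ⟨X, f, j, sq, hf, h1, h2, h3 1 hdim'⟩

end K902.FamLift
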