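import Mathlib.AlgebraicGeometry.Morphisms.Flat
import Mathlib.AlgebraicGeometry.Noetherian
import Mathlib.AlgebraicGeometry.Morphisms.FinitePresentation
import Mathlib.AlgebraicGeometry.ResidueField
import Mathlib.AlgebraicGeometry.FunctionField

/-!
Morphisms of schemes to the spectrum of a field: flatness, finite presentation, maximal ideals of the stalks of `Spec k`.
-/

set_option autoImplicit false
universe u

open CategoryTheory CategoryTheory.Limits AlgebraicGeometry Opposite IsLocalRing

namespace K902.OverField

variable {k : Type u} [Field k]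

theorem flat {X : Scheme.{u}} (f : X ⟶ Spec (CommRingCat.of k)) : Flat f := by
  infer_instance

theorem lfp {X : Scheme.{u}} (f : X ⟶ Spec (CommRingCat.of k)) [LocallyOfFiniteType f] :
    LocallyOfFinitePresentation f :=
  LocallyOfFinitePresentation.iff_locallyOfFiniteType.2 inferInstance

theorem isField_stalk_spec (y : Spec (CommRingCat.of k)) :
    IsField ((Spec (CommRingCat.of k)).presheaf.stalk y) := by
  have h1 : Subsingleton (Spec (CommRingCat.of k)) :=
    inferInstanceAs (Subsingleton (PrimeSpectrum k))
  have h2 : IsIntegral (Spec (CommRingCat.of k)) := inferInstance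
  have h3 : y = genericPoint (Spec (CommRingCat.of k)) := Subsingleton.elim _ _
  rw [h3]
  exact (inferInstance : Field (Spec (CommRingCat.of k)).functionField).toIsField

theorem maximalIdeal_stalk (y : Spec (CommRingCat.of k)) :
    maximalIdeal ((Spec (CommRingCat.of k)).presheaf.stalk y) = ⊥ :=
  IsLocalRing.isField_iff_maximalIdeal_eq.1 (isField_stalk_spec y)

/-- The local ring of the fibre of `f : X ⟶ Spec k` at `x` is the local ring of `X` at `x`. -/
noncomputable def quotEquiv {X : Scheme.{u}} (f : X ⟶ Spec (CommRingCat.of k)) (x : X) :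
    (X.presheaf.stalk x ⧸ Ideal.map (f.stalkMap x).hom
      (maximalIdeal ((Spec (CommRingCat.of k)).presheaf.stalk (f x)))) ≃+* X.presheaf.stalk x :=
  (Ideal.quotEquivOfEq (by rw [maximalIdeal_stalk, Ideal.map_bot])).trans
    (RingEquiv.quotientBot _)

end K902.OverField
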