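import Groth.Agent.CurvSt.K902.SliceFam
import Groth.Agent.CurvSt.K902.OverField
import Groth.Agent.AlgSp.K608.SepAbs
import Groth.Agent.AlgSp.K610.SchLocus
import Groth.Agent.AlgSp.K616.FlatDim
import Groth.Agent.AlgSp.K639.Dim

/-!
# The geometric fibres of a family of curves are schemes

`SchCurves W` : algebraic spaces over `W` which are curves over `W` are schemes.
* `exists_square_of_schCurves` : if `SchCurves W`, the base change of a family of curves to `W` is a scheme;
* `hasSchFibres_of` : `SchCurves (Spec Ω)` for all algebraically closed `Ω` gives `HasSchFibres`;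
* `schCurves_of_codimLeOne` : `SchCurves (Spec k)` from the statement that points of codimension at most one of separated
  locally Noetherian algebraic spaces lie in the schematic locus.
-/

set_option autoImplicit false

universe u

open CategoryTheory CategoryTheory.Limits AlgebraicGeometry Opposite AlgSp

namespace K902.FibSch

open K595 K595.ChBase CurvSt K902.Slice

/-- Curves over `W` (algebraic spaces flat, proper, of finite presentation, of relative dimension at most one over `W`) are
schemes. -/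
def SchCurves (W : Scheme.{u}) : Prop :=
  ∀ X : Sp W, IsAlgSpace X → CurveMor (toPt X) → X.obj.IsRepresentable

section Fam

variable {S : Scheme.{u}} {n : ℕ}

/-- The square over the total space of a representable slice. -/
theorem isPullback_rep {W : Scheme.{u}} {X : Sp W} {Z : Over W} (e : (yon W).obj Z ≅ X) :
    IsPullback e.hom ((yon W).map (Over.mkIdTerminal.from Z)) (toPt X) ((yon W).map (𝟙 (Over.mk (𝟙 W)))) := by
  rw [CategoryTheory.Functor.map_id]
  exact IsPullback.of_horiz_isIso ⟨by
    rw [Category.comp_id]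
    exact (toPt_uniq _).trans (toPt_uniq _).symm⟩

theorem exists_square_of_schCurves {A : SpFamObj S n} (hA : IsCurveFam A) {W : Scheme.{u}} (H : SchCurves W)
    (w : W ⟶ A.base.left) :
    ∃ (X' : Scheme.{u}) (q : X' ⟶ W) (i : (yon S).obj (A.ptOver (q ≫ w)) ⟶ A.X),
      IsPullback i ((yon S).map (A.fibHom w q)) A.f ((yon S).map (A.ptHom w)) := by
  obtain ⟨X', j, sq⟩ := exists_slice A w
  obtain ⟨Z, ⟨r⟩⟩ := H X' (isAlgSpace_slice hA sq) (curveMor_slice hA sq)
  have h1 := exists_isPullback_of_slice sq (Over.mkIdTerminal.from Z) (𝟙 (Over.mk (𝟙 W)))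
    (isPullback_rep (isoOfRepresentableBy r))
  have h2 : (Over.mk (𝟙 W)).hom ≫ w = w := Category.id_comp w
  rw [h2] at h1
  exact ⟨Z.left, (Over.mkIdTerminal.from Z).left, h1⟩

theorem hasSchFibres_of
    (H : ∀ (Ω : Type u) [Field Ω] [IsAlgClosed Ω], SchCurves (Spec (CommRingCat.of Ω)))
    {A : SpFamObj S n} (hA : IsCurveFam A) : K901.GeomLoc.HasSchFibres A :=
  fun Ω _ _ t => exists_square_of_schCurves hA (H Ω) t

end Fam

section Codim

/-- The statement that a point of codimension at most one of a separated locally Noetherian algebraic space lies in the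
schematic locus. -/
def CodimLeOne (W : Scheme.{u}) : Prop :=
  ∀ (X : AlgSp.Space W), AlgSp.IsSeparatedSp X.obj → AlgSp.IsLocNoethSp X.obj →
    ∀ (x : AlgSp.Points X.obj), AlgSp.HasAt (fun U u => ringKrullDim ↥(U.presheaf.stalk u) ≤ 1) X.obj x →
    ∃ (X' : AlgSp.Space W) (j : X' ⟶ X), AlgSp.RepWith @IsOpenImmersion j.hom ∧
      X'.obj.obj.IsRepresentable ∧ x ∈ Set.range (AlgSp.Points.map j.hom)

theorem dim_stalk_le {k : Type u} [Field k] {X : Scheme.{u}} (f : X ⟶ Spec (CommRingCat.of k))
    (x : X) (h : FlatMor.fibreDimAt f x ≤ ((1 : ℕ) : WithBot ℕ∞)) : ringKrullDim (X.presheaf.stalk x) ≤ 1 := by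
  rw [ringKrullDim_stalk_eq_coheight]
  rw [← K639.Dim.localDim_eq_fibreDimAt] at h
  exact (K616.FlatDim.coheight_le_localDim x).trans h

theorem schCurves_of_codimLeOne {k : Type u} [Field k] (H : CodimLeOne (Spec (CommRingCat.of k))) :
    SchCurves (Spec (CommRingCat.of k)) := by
  intro X hX hc
  have hpt := IsAlgSpace.yon_obj (S := Spec (CommRingCat.of k)) (Over.mk (𝟙 _))
  have h3 := hc.proper.2.1.1
  have h4 := (relDimLE_iff hX hpt h3 1).1 hc.dim
  have hsep : IsSeparatedSp X := K608.SepAbs.isSeparatedSp_of_isSeparatedMor (toPt X) hc.proper.1 (by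
    rw [IsSeparatedSp, repWith_diag_yon_iff]
    change IsClosedImmersion (pullback.diagonal (𝟙 _))
    infer_instance)
  have key : ∀ (U : Over (Spec (CommRingCat.of k))) (a : (yon _).obj U ⟶ X), RepWith @Etale a →
      LocallyOfFiniteType U.hom ∧ ∀ x, FlatMor.fibreDimAt U.hom x ≤ ((1 : ℕ) : WithBot ℕ∞) := by
    intro U a ha
    have h5 := h4 a (𝟙 _) (Over.mkIdTerminal.from U) ha (repWith_id _ _) ((toPt_uniq _).trans (toPt_uniq _).symm)
    have h6 : (Over.mkIdTerminal.from U).left = U.hom := by simp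
    rw [h6] at h5
    exact h5
  have hN : IsLocNoethSp X := by
    obtain ⟨U, p, hp1, hp2⟩ := hX.atlas
    refine ⟨U, p, hp1, hp2, ?_⟩
    have := (key U p hp1).1
    have : IsLocallyNoetherian (Spec (CommRingCat.of k)) := inferInstance
    exact LocallyOfFiniteType.isLocallyNoetherian U.hom
  rw [show X.obj = (⟨X, hX⟩ : AlgSp.Space _).obj.obj from rfl, K610.SchLocus.isRepresentable_iff_forall]
  intro x
  obtain ⟨U, p, hp1, hp2⟩ := hX.atlas
  obtain ⟨u, hu⟩ := K609.Points.surjective_ofPt_of_repWith_surjective hp2 x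
  obtain ⟨X', j, hj, hr, hx⟩ := H ⟨X, hX⟩ hsep hN x ⟨U, p, u, hp1, hu, dim_stalk_le U.hom u ((key U p hp1).2 u)⟩
  exact ⟨_, (K610.SchLocus.isSch_iff hj).2 hr, hx⟩

end Codim

end K902.FibSch
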