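import Groth.Agent.Sga4h.H912.P1Irr
import Groth.Agent.S2768
import Groth.Agent.S1535
import Groth.Agent.S0342
import Groth.Agent.CurvSt.K899.CurveFam
import Groth.Prelude.Def_Dual3

/-!
# The projective line as an object of the stack of curves

* `isGorensteinAt_of_smooth`: a smooth morphism is Gorenstein at every point;
* `K902.Line.obj S T`: the projective line over `T` as an object of `Curves S 0` over `T`; it is smooth, of relative
  dimension one at every point.
-/

set_option autoImplicit false
universe u

open AlgebraicGeometry CategoryTheory CategoryTheory.Limits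

namespace K902.Line

open CurvSt CohB1

theorem isGorensteinAt_of_smooth {X Y : Scheme.{u}} (f : X ⟶ Y) [Smooth f] (x : X) : Dual3.IsGorensteinAt f x := by
  refine ⟨Flat.stalkMap f x, ?_⟩
  let _ : (f.fiber (f x)).Over (Spec (CommRingCat.of (Y.residueField (f x)))) :=
    ⟨f.fiberToSpecResidueField (f x)⟩
  have hs : Smooth ((f.fiber (f x)) ↘ (Spec (CommRingCat.of (Y.residueField (f x))))) :=
    inferInstanceAs (Smooth (pullback.snd f (Y.fromSpecResidueField (f x))))
  have := Groth.Agent.S1535.result (Y.residueField (f x)) (f.fiber (f x)) (f.asFiber x)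
  exact Groth.Agent.S0342.result _

variable (S : Scheme.{u}) (T : Over S)

/-- The projective line over `T` as an unpointed family. -/
noncomputable def fam : PtFamObj S 0 :=
  ⟨T, ProjSpaceOver 1 T.left, ProjSpaceOver.toBase 1 T.left, Fin.elim0, fun i => i.elim0⟩

instance smooth_fam : SmoothOfRelativeDimension 1 (fam S T).f :=
  Groth.Agent.Sga4h.H912.P1Irr.smooth_toBase 1 T.left

instance proper_fam : IsProper (fam S T).f :=
  Groth.Agent.Sga4h.H912.P1Irr.proper_toBase 1 T.left

theorem smooth : Smooth (fam S T).f := SmoothOfRelativeDimension.smooth 1 _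

theorem fibreDimAt (x : (fam S T).C) : FlatMor.fibreDimAt (fam S T).f x = ((1 : ℕ) : WithBot ℕ∞) :=
  Groth.Agent.S2768.result 1 (fam S T).f x

/-- The projective line over `T` as an object of the stack of curves. -/
noncomputable def obj : (Curves S 0).obj :=
  haveI := smooth S T
  K899.CurveFam.toCurves (fam S T) inferInstance (proper_fam S T) inferInstance
    (fun x => (fibreDimAt S T x).le)

theorem obj_base : (obj S T).obj.base = T := rfl

theorem locP_smooth : AlgSp.LocP @Smooth (obj S T).obj.f :=
  K899.CurveFam.locP_smooth (fam S T).fOver (smooth S T)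

theorem locP_smoothOfRelativeDimension :
    AlgSp.LocP (fun _ _ f => SmoothOfRelativeDimension 1 f) (obj S T).obj.f := by
  refine K902.LocSch.locP_yon_map_of (fun _ _ f => SmoothOfRelativeDimension 1 f)
    (fun _ _ f => SmoothOfRelativeDimension 1 f) ?_ ?_ (fam S T).fOver (smooth_fam S T)
  · intro X Y X' Y' f f' g' g sq _ hf
    have := smoothOfRelativeDimension_isStableUnderBaseChange.{u} 1
    exact MorphismProperty.of_isPullback sq hf
  · intro U X Y a f ha hf
    have h1 : SmoothOfRelativeDimension 0 a := (Etale.iff_smoothOfRelativeDimension_zero a).1 ha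
    have h2 : SmoothOfRelativeDimension 1 f := hf
    have : SmoothOfRelativeDimension (0 + 1) (a ≫ f) := inferInstance
    simpa using this

/-- A condition satisfied by the projective line has an object over every base. -/
theorem nonempty_fiber (Q : (Curves S 0).obj → Prop) (h : Q (obj S T)) :
    Nonempty ((AlgSt.fullSub (Curves S 0) Q).p.Fiber T) :=
  ⟨⟨⟨obj S T, h⟩, rfl⟩⟩

end K902.Line
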