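import Groth.Agent.CurvSt.K902.EtSchFin
import Groth.Agent.CurvSt.K901.SchLoc
import Groth.Agent.Pi1.H536.GenusFam

/-!
# Conditions on geometric fibres described by open subsets of the base of scheme families

`SchOpen P`: for every flat proper family of schemes the geometric fibres satisfying `P` are those over an open subset.
* `SchOpen.and`, `SchOpen.extDesc`, `SchOpen.hasOpenLocus` : open locus in the stack of curves;
* `SchOpen.genus` : adding the genus;
* `SchOpen.exists_genus` : the genus is constant over a connected base.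
-/

set_option autoImplicit false

universe u

open CategoryTheory CategoryTheory.Limits AlgebraicGeometry

namespace K902.SchSet

open CurvSt AlgSp K901.GeomFibAt K901.GeomLoc K901.EtSch K901.Loci K901.SchLoc
open Groth.Agent

/-- Properties of schemes over algebraically closed fields. -/
abbrev FProp : Type (u + 1) := ∀ (Ω : Type u) [Field Ω] [IsAlgClosed Ω] (X' : Scheme.{u}),
      (X' ⟶ Spec (CommRingCat.of Ω)) → Prop

/-- The geometric fibres of a flat proper family of schemes satisfying `P` are those over an open subset. -/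
def SchOpen (P : FProp.{u}) : Prop :=
  ∀ (C T : Scheme.{u}) (f : C ⟶ T) [Flat f] [IsProper f] [LocallyOfFinitePresentation f],
    ∃ U : Set T, IsOpen U ∧ ∀ (Ω : Type u) [Field Ω] [IsAlgClosed Ω] (t : Spec (CommRingCat.of Ω) ⟶ T) (X' : Scheme.{u})
      (i : X' ⟶ C) (q : X' ⟶ Spec (CommRingCat.of Ω)), IsPullback i q f t →
        (P Ω X' q ↔ t.base (IsLocalRing.closedPoint Ω) ∈ U)

variable {P Q : FProp.{u}}

theorem SchOpen.and (hP : SchOpen P) (hQ : SchOpen Q) : SchOpen (fun Ω _ _ X' q => P Ω X' q ∧ Q Ω X' q) := by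
  intro C T f _ _ _
  obtain ⟨U, hU, h⟩ := hP _ _ f
  obtain ⟨V, hV, h'⟩ := hQ _ _ f
  exact ⟨U ∩ V, hU.inter hV, fun Ω _ _ t X' i q sq => and_congr (h Ω t X' i q sq) (h' Ω t X' i q sq)⟩

/-- Invariance under base change to larger fields. -/
theorem SchOpen.iff_of_isPullback (hP : SchOpen P) {Ω Ω' : Type u} [Field Ω] [IsAlgClosed Ω] [Field Ω'] [IsAlgClosed Ω']
    {e : Spec (CommRingCat.of Ω') ⟶ Spec (CommRingCat.of Ω)} {X X' : Scheme.{u}} {q : X ⟶ Spec (CommRingCat.of Ω)}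
    {q' : X' ⟶ Spec (CommRingCat.of Ω')} {i : X' ⟶ X} (sq : IsPullback i q' q e) [IsProper q] :
    P Ω' X' q' ↔ P Ω X q := by
  have hlfp : LocallyOfFinitePresentation q := LocallyOfFinitePresentation.iff_locallyOfFiniteType.2 inferInstance
  obtain ⟨U, -, hU⟩ := hP _ _ q
  have hid : IsPullback (𝟙 X) q q (𝟙 _) := IsPullback.of_horiz_isIso ⟨by simp⟩
  rw [hU Ω' e X' i q' sq, hU Ω (𝟙 _) X (𝟙 X) q hid, Subsingleton.elim (e.base (IsLocalRing.closedPoint Ω'))
    ((𝟙 (Spec (CommRingCat.of Ω)) : _ ⟶ _).base (IsLocalRing.closedPoint Ω))]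

theorem SchOpen.extDesc (hP : SchOpen P) (n : ℕ) : ExtDesc (n := n) (fun Ω _ _ X' q _ => P Ω X' q) :=
  fun _ _ _ _ _ _ _ _ _ _ _ _ _ _ _ _ sq h => (hP.iff_of_isPullback sq).1 h

section Sch

variable {S : Scheme.{u}} {n : ℕ}

theorem SchOpen.locus_eq (hP : SchOpen P) (B : PtFamObj S n) [Flat B.f] [IsProper B.f] [LocallyOfFinitePresentation B.f] :
    ∃ U : Set B.base.left, IsOpen U ∧ locus (fun Ω _ _ X' q _ => P Ω X' q) ((toSpFam S n).obj B) = U ∧
      ∀ (Ω : Type u) [Field Ω] [IsAlgClosed Ω] (t : Spec (CommRingCat.of Ω) ⟶ B.base.left) (X' : Scheme.{u})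
        (i : X' ⟶ B.C) (q : X' ⟶ Spec (CommRingCat.of Ω)), IsPullback i q B.f t →
        (P Ω X' q ↔ t.base (IsLocalRing.closedPoint Ω) ∈ U) := by
  obtain ⟨U, h1, h2⟩ := hP _ _ B.f
  refine ⟨U, h1, ?_, h2⟩
  rw [locus_toSpFam]
  ext s
  refine mem_loc_iff_of _ _ _ _ fun Ω _ _ t ht X' i q sq => ?_
  rw [h2 Ω t X' i q sq, ht]

theorem SchOpen.isOpen_locus (hP : SchOpen P) {A : SpFamObj S n} (hA : IsCurveFam A) :
    IsOpen (locus (fun Ω _ _ X' q _ => P Ω X' q) A) := by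
  refine isOpen_locus_of_etLocSch _ hA (EtSchFin.etLocSch hA) fun B _ _ _ _ => ?_
  obtain ⟨U, h1, h2, -⟩ := hP.locus_eq B
  rw [h2]
  exact h1

/-- **Open loci in the stack of curves.** -/
theorem SchOpen.hasOpenLocus (hP : SchOpen P) (S : Scheme.{u}) (n : ℕ) :
    K899.OpenCrit.HasOpenLocus (𝒳 := Curves S n) (fun A => GeomFib (fun Ω _ _ X' q _ => P Ω X' q) A.obj) :=
  hasOpenLocus_of_isOpen (hP.extDesc n) fun A => hP.isOpen_locus A.property

/-- One geometric fibre suffices. -/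
theorem SchOpen.mem_locus_or (hP : SchOpen P) {A : SpFamObj S n} (hA : IsCurveFam A) (s : A.base.left) :
    s ∈ locus (fun Ω _ _ X' q _ => P Ω X' q) A ∨ s ∈ locus (fun Ω _ _ X' q _ => ¬ P Ω X' q) A := by
  obtain ⟨T', g, v, X', q, j, hg, rfl, sq⟩ := EtSchFin.etLocSch hA s
  obtain ⟨f1, f2, f3, f4⟩ := K901.SchFib.facts hA sq
  have i1 : Flat (schFam A sq).f := f1
  have i2 : IsProper (schFam A sq).f := f2
  have i3 : LocallyOfFinitePresentation (schFam A sq).f := f3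
  have hg' : Etale (schFamHom A sq).base.left := hg
  obtain ⟨U, h1, h2, h3⟩ := hP.locus_eq (schFam A sq)
  by_cases hv : v ∈ U
  · left
    rw [← h2] at hv
    exact (mem_locus_iff_of_etale (schFamHom A sq) v).1 hv
  · right
    refine (mem_locus_iff_of_etale (schFamHom A sq) v).1 ?_
    rw [locus_toSpFam]
    refine (mem_loc_iff_of _ _ _ (v ∉ U) fun Ω _ _ t ht X'' i q'' sq'' => ?_).2 hv
    rw [h3 Ω t X'' i q'' sq'', ht]
    exact Iff.rfl

/-- A geometric fibre satisfying `P` puts its image in the locus. -/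
theorem SchOpen.mem_locus_of (hP : SchOpen P) {A : SpFamObj S n} (hA : IsCurveFam A)
    {Ω : Type u} [Field Ω] [IsAlgClosed Ω] {t : Spec (CommRingCat.of Ω) ⟶ A.base.left} {X' : Scheme.{u}}
    {q : X' ⟶ Spec (CommRingCat.of Ω)} {i : (yon S).obj (A.ptOver (q ≫ t)) ⟶ A.X}
    (sq : IsPullback i ((yon S).map (A.fibHom t q)) A.f ((yon S).map (A.ptHom t))) (h : P Ω X' q) :
    t.base (IsLocalRing.closedPoint Ω) ∈ locus (fun Ω _ _ X' q _ => P Ω X' q) A := by
  rcases hP.mem_locus_or hA (t.base (IsLocalRing.closedPoint Ω)) with h1 | h1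
  · exact h1
  · exact absurd h (h1 Ω t rfl X' q i sq)

end Sch

/-- The structure sheaf has the cohomology of a connected reduced curve. -/
def HOne (Ω : Type u) [Field Ω] [IsAlgClosed Ω] (X : Scheme.{u}) (q : X ⟶ Spec (CommRingCat.of Ω)) : Prop :=
  letI : X.Over (Spec (CommRingCat.of Ω)) := ⟨q⟩
  Module.finrank Ω (Coh.HH X (Coh.structureModule X) 0) = 1 ∧
    ∀ j : ℕ, 2 ≤ j → Subsingleton (Coh.HH X (Coh.structureModule X) j)

theorem finsum_eq (b : ℕ → ℕ) (hb0 : b 0 = 1) (hb2 : ∀ i, 2 ≤ i → b i = 0) :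
    (finsum fun i : ℕ => (-1 : ℤ) ^ i * (b i : ℤ)) = 1 - b 1 := by
  rw [finsum_eq_sum_of_support_subset (s := Finset.range 2)]
  · simp [Finset.sum_range_succ, hb0]
    ring
  · intro i hi
    simp only [Function.mem_support, ne_eq, mul_eq_zero, not_or] at hi
    by_contra hcon
    simp only [Finset.coe_range, Set.mem_Iio, not_lt] at hcon
    exact hi.2 (by rw [hb2 i hcon]; rfl)

theorem eulerChar_eq {C T : Scheme.{u}} (f : C ⟶ T) [IsProper f] [LocallyOfFinitePresentation f]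
    {Ω : Type u} [Field Ω] [IsAlgClosed Ω] {t : Spec (CommRingCat.of Ω) ⟶ T}
    {X' : Scheme.{u}} {i : X' ⟶ C} {q : X' ⟶ Spec (CommRingCat.of Ω)} (hP : IsPullback i q f t)
    (h : HOne Ω X' q) :
    PerfAux.eulerChar f (Coh.structureModule C) (t.base (IsLocalRing.closedPoint Ω)) =
      1 - (@Curv2.genus Ω _ X' ⟨q⟩ : ℤ) := by
  let i1 : X'.Over (Spec (CommRingCat.of Ω)) := ⟨q⟩
  obtain ⟨h5, h6⟩ := h
  have b := fun j => Groth.Agent.Pi1.H536.GenusFam.finrank_eq_betti f Ω t (IsLocalRing.closedPoint Ω) i hP j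
  unfold PerfAux.eulerChar
  rw [finsum_eq (fun j => PerfAux.betti f (Coh.structureModule C) (t.base (IsLocalRing.closedPoint Ω)) j)
    ((b 0).symm.trans h5) fun j hj => by
      have := h6 j hj
      exact (b j).symm.trans Module.finrank_zero_of_subsingleton]
  congr 2
  exact (b 1).symm

/-- Adding the genus. -/
theorem SchOpen.genus (hP : SchOpen P)
    (h0 : ∀ (Ω : Type u) [Field Ω] [IsAlgClosed Ω] (X : Scheme.{u}) (q : X ⟶ Spec (CommRingCat.of Ω)), IsProper q →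
      P Ω X q → HOne Ω X q) (g : ℕ) :
    SchOpen (fun Ω _ _ X' q => P Ω X' q ∧ @Curv2.genus Ω _ X' ⟨q⟩ = g) := by
  intro C T f _ _ _
  obtain ⟨U, hU, h⟩ := hP _ _ f
  have h1 := PerfB.Semi.isLocallyConstant_euler f (Coh.structureModule C)
    (PerfB.StructFlat.isFP_structure) (PerfB.StructFlat.isFlatOver_structure f)
  refine ⟨U ∩ {s | PerfAux.eulerChar f (Coh.structureModule C) s = 1 - (g : ℤ)},
    hU.inter (h1.isOpen_fiber (1 - (g : ℤ))), fun Ω _ _ t X' i q sq => ?_⟩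
  have hq : IsProper q := MorphismProperty.of_isPullback sq inferInstance
  constructor
  · rintro ⟨h2, h3⟩
    refine ⟨(h Ω t X' i q sq).1 h2, ?_⟩
    change PerfAux.eulerChar f _ _ = _
    rw [eulerChar_eq f sq (h0 Ω X' q hq h2), h3]
  · rintro ⟨h2, h3⟩
    have h4 := (h Ω t X' i q sq).2 h2
    refine ⟨h4, ?_⟩
    change PerfAux.eulerChar f _ _ = _ at h3
    rw [eulerChar_eq f sq (h0 Ω X' q hq h4)] at h3
    omega

section Const

variable {S : Scheme.{u}} {n : ℕ}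

/-- **The genus is constant over a connected base.** -/
theorem SchOpen.exists_genus (hP : SchOpen P)
    (h0 : ∀ (Ω : Type u) [Field Ω] [IsAlgClosed Ω] (X : Scheme.{u}) (q : X ⟶ Spec (CommRingCat.of Ω)), IsProper q →
      P Ω X q → HOne Ω X q) {A : SpFamObj S n} (hA : IsCurveFam A) (h : GeomFib (fun Ω _ _ X' q _ => P Ω X' q) A)
    (hc : ConnectedSpace A.base.left) : ∃ g : ℕ, SpHasGenus A g := by
  let L : ℕ → Set A.base.left := fun g =>
    locus (fun Ω _ _ X' q _ => P Ω X' q ∧ @Curv2.genus Ω _ X' ⟨q⟩ = g) A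
  have hL : ∀ g, IsOpen (L g) := fun g => (hP.genus h0 g).isOpen_locus hA
  have hcov : ∀ s, ∃ g, s ∈ L g := by
    intro s
    obtain ⟨Ω, _, _, t, rfl⟩ := exists_geomPt s
    obtain ⟨X', q, i, sq⟩ := EtSchFin.hasSchFibres hA Ω t
    exact ⟨@Curv2.genus Ω _ X' ⟨q⟩, (hP.genus h0 _).mem_locus_of hA sq ⟨h Ω t X' q i sq, rfl⟩⟩
  have hdisj : ∀ g g' s, s ∈ L g → s ∈ L g' → g = g' := by
    intro g g' s h1 h2
    obtain ⟨Ω, _, _, t, rfl⟩ := exists_geomPt s
    obtain ⟨X', q, i, sq⟩ := EtSchFin.hasSchFibres hA Ω t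
    exact (h1 Ω t rfl X' q i sq).2.symm.trans (h2 Ω t rfl X' q i sq).2
  obtain ⟨s0⟩ : Nonempty A.base.left := inferInstance
  obtain ⟨g, hg⟩ := hcov s0
  have hcl : IsClopen (L g) := by
    refine ⟨⟨?_⟩, hL g⟩
    have h3 : (L g)ᶜ = ⋃ g' : {g' // g' ≠ g}, L g'.1 := by
      ext s
      simp only [Set.mem_compl_iff, Set.mem_iUnion]
      constructor
      · intro h4
        obtain ⟨g', hg'⟩ := hcov s
        exact ⟨⟨g', fun h5 => h4 (h5 ▸ hg')⟩, hg'⟩
      · rintro ⟨⟨g', h5⟩, hg'⟩ h4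
        exact h5 (hdisj _ _ s hg' h4)
    rw [h3]
    exact isOpen_iUnion fun g' => hL _
  have hu : L g = Set.univ := hcl.eq_univ ⟨s0, hg⟩
  refine ⟨g, fun Ω _ _ t X' q i sq => ?_⟩
  have h6 : t.base (IsLocalRing.closedPoint Ω) ∈ L g := by rw [hu]; trivial
  exact (h6 Ω t rfl X' q i sq).2

end Const

end K902.SchSet
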