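import Groth.Agent.AlgSp.K595.ChBaseEquiv
import Groth.Agent.AlgSp.K609.Points

/-!
# Change of base and points

For `g : S ⟶ S'` and an fppf sheaf `F` over `S`, `lpt g F : |F| ≃ₜ |j_! F|`, compatible with charts and morphisms.
Lifting of objects, morphisms and cartesian squares over `j_! G` to `G`.
-/

set_option autoImplicit false

universe u

open CategoryTheory CategoryTheory.Limits AlgebraicGeometry Opposite AlgSp

namespace K902.Slice

open K595 K595.ChBase

variable {S S' : Scheme.{u}} (g : S ⟶ S')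

section Lift

variable {g}

/-- `j_!` reflects isomorphisms. -/
theorem isIso_of_L {F G : Sp S} {f : F ⟶ G} (h : IsIso ((L g).map f)) : IsIso f := by
  have h1 : IsIso ((Over.forget _).map ((toOver g).map f)) := h
  have h2 : IsIso ((toOver g).map f) := isIso_of_reflects_iso _ (Over.forget _)
  exact isIso_of_reflects_iso f (toOver g)

theorem L_map_injective {F G : Sp S} {f f' : F ⟶ G} (h : (L g).map f = (L g).map f') : f = f' := by
  apply (toOver g).map_injective
  apply Over.OverMorphism.ext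
  exact h

/-- A morphism of sheaves to `j_! G` comes from a morphism to `G`. -/
theorem exists_lift_obj {G : Sp S} {Z : Sp S'} (z : Z ⟶ (L g).obj G) :
    ∃ (Z₀ : Sp S) (e : (L g).obj Z₀ ≅ Z) (z₀ : Z₀ ⟶ G), e.hom ≫ z = (L g).map z₀ := by
  let A : Over ((yon S').obj (Over.mk g)) := Over.mk (z ≫ projHom (g := g) G)
  obtain ⟨Z₀, ⟨e⟩⟩ : (toOver g).essImage A := Functor.EssSurj.mem_essImage _ A
  let b : A ⟶ (toOver g).obj G := Over.homMk z rfl
  obtain ⟨z₀, hz₀⟩ := (toOver g).map_surjective (e.hom ≫ b)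
  exact ⟨Z₀, (Over.forget _).mapIso e, z₀, (congrArg (fun t => t.left) hz₀).symm⟩

/-- Morphisms over `j_! G` come from morphisms over `G`. -/
theorem exists_hom_of_comp {X Y G : Sp S} (x : X ⟶ G) (y : Y ⟶ G) (k : (L g).obj X ⟶ (L g).obj Y)
    (hk : k ≫ (L g).map y = (L g).map x) : ∃ k₀ : X ⟶ Y, (L g).map k₀ = k ∧ k₀ ≫ y = x := by
  have w : k ≫ projHom (g := g) Y = projHom X := by
    rw [← L_map_projHom g y, ← Category.assoc, hk, L_map_projHom]
  let b : (toOver g).obj X ⟶ (toOver g).obj Y := Over.homMk k w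
  obtain ⟨k₀, hk₀⟩ := (toOver g).map_surjective b
  have h1 : (L g).map k₀ = k := congrArg (fun t => t.left) hk₀
  refine ⟨k₀, h1, L_map_injective (g := g) ?_⟩
  rw [Functor.map_comp, h1, hk]

/-- `j_!` reflects cartesian squares. -/
theorem isPullback_of_L {P X Y Z : Sp S} {fst : P ⟶ X} {snd : P ⟶ Y} {f : X ⟶ Z} {h : Y ⟶ Z}
    (sq : IsPullback ((L g).map fst) ((L g).map snd) ((L g).map f) ((L g).map h)) :
    IsPullback fst snd f h := by
  have w : fst ≫ f = snd ≫ h := L_map_injective (g := g) (by rw [Functor.map_comp, Functor.map_comp, sq.w])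
  have sq' := IsPullback.of_hasPullback f h
  let k : P ⟶ pullback f h := sq'.lift fst snd w
  have hk : IsIso ((L g).map k) := by
    have e1 : (L g).map k = (sq.isoIsPullback _ _ (isPullback_L (g := g) sq')).hom := by
      apply (isPullback_L (g := g) sq').hom_ext
      · rw [IsPullback.isoIsPullback_hom_fst, ← Functor.map_comp, sq'.lift_fst]
      · rw [IsPullback.isoIsPullback_hom_snd, ← Functor.map_comp, sq'.lift_snd]
    rw [e1]
    infer_instance
  have hk' : IsIso k := isIso_of_L hk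
  have e1 : k ≫ pullback.fst f h = fst := sq'.lift_fst _ _ w
  have e2 : k ≫ pullback.snd f h = snd := sq'.lift_snd _ _ w
  exact IsPullback.of_iso sq' (asIso k).symm (Iso.refl _) (Iso.refl _) (Iso.refl _)
    (by simp [← e1]) (by simp [← e2]) (by simp) (by simp)

/-- A cartesian square over `j_! G` comes from one over `G`. -/
theorem exists_isPullback_of_L {F G : Sp S} (f : F ⟶ G) {Z Z' : Sp S'} (z : Z ⟶ (L g).obj G)
    {fst : Z' ⟶ (L g).obj F} {snd : Z' ⟶ Z} (sq : IsPullback fst snd ((L g).map f) z) :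
    ∃ (Z₀ Z₀' : Sp S) (e : (L g).obj Z₀ ≅ Z) (e' : (L g).obj Z₀' ≅ Z') (z₀ : Z₀ ⟶ G)
      (fst₀ : Z₀' ⟶ F) (snd₀ : Z₀' ⟶ Z₀), e.hom ≫ z = (L g).map z₀ ∧
      e'.hom ≫ fst = (L g).map fst₀ ∧ e'.hom ≫ snd = (L g).map snd₀ ≫ e.hom ∧
      IsPullback fst₀ snd₀ f z₀ := by
  obtain ⟨Z₀, e, z₀, hz⟩ := exists_lift_obj z
  have sq₀ := IsPullback.of_hasPullback f z₀
  have sq1 := isPullback_L (g := g) sq₀
  have sq2 : IsPullback ((L g).map (pullback.fst f z₀)) ((L g).map (pullback.snd f z₀) ≫ e.hom)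
      ((L g).map f) z := by
    refine IsPullback.of_iso sq1 (Iso.refl _) (Iso.refl _) e (Iso.refl _) (by simp) (by simp) (by simp)
      (by simp [hz])
  refine ⟨Z₀, pullback f z₀, e, sq2.isoIsPullback _ _ sq, z₀, _, _, hz, ?_, ?_, sq₀⟩
  · exact IsPullback.isoIsPullback_hom_fst _ _ _ _
  · exact IsPullback.isoIsPullback_hom_snd _ _ _ _

end Lift

section Points

/-- The field-valued point of `j_! F` defined by a field-valued point of `F`. -/
noncomputable def fpt {F : Sp S} (p : FieldPt F) : FieldPt ((L g).obj F) :=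
  ⟨p.K, p.str ≫ g, (Slice.unitP.{u + 1} (g := g) F.obj).app (op (Over.mk p.str)) p.val⟩

/-- The map on points `|F| → |j_! F|`. -/
noncomputable def lpt (F : Sp S) : Points F → Points ((L g).obj F) :=
  Quotient.map (fpt g) (by
    rintro p q ⟨Ω, _, w, a, b, h⟩
    refine ⟨Ω, inferInstance, w ≫ g, (Over.map g).map a, (Over.map g).map b, ?_⟩
    have ha := NatTrans.naturality_apply (Slice.unitP.{u + 1} (g := g) F.obj) a.op p.val
    have hb := NatTrans.naturality_apply (Slice.unitP.{u + 1} (g := g) F.obj) b.op q.val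
    refine ha.symm.trans (Eq.trans ?_ hb)
    rw [h])

theorem lpt_mk {F : Sp S} (p : FieldPt F) : lpt g F (Points.mk p) = Points.mk (fpt g p) := rfl

variable {g} in
theorem lpt_ofPt {F : Sp S} {T : Over S} (a : (yon S).obj T ⟶ F) (t : ↥T.left) :
    lpt g F (Points.ofPt a t) =
      Points.ofPt (T := (Over.map g).obj T) (yonHom (g := g) T ≫ (L g).map a) t := by
  let W : Over S := Over.mk (T.left.fromSpecResidueField t ≫ T.hom)
  let w : W ⟶ T := Over.homMk (T.left.fromSpecResidueField t) rfl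
  refine Points.sound ⟨T.left.residueField t, inferInstance, (T.left.fromSpecResidueField t ≫ T.hom) ≫ g, 𝟙 _,
    Over.homMk (𝟙 _) (by
      change 𝟙 _ ≫ T.left.fromSpecResidueField t ≫ T.hom ≫ g = (T.left.fromSpecResidueField t ≫ T.hom) ≫ g
      rw [Category.id_comp, Category.assoc]), ?_⟩
  have h1 : (fpt g (FieldPt.ofPt a t)).val =
      (yonHom (g := g) T ≫ (L g).map a).hom.app (op ((Over.map g).obj W)) ⟨(Over.map g).map w⟩ := by
    change (Slice.unitP.{u + 1} (g := g) F.obj).app (op W) (a.hom.app (op W) ⟨w⟩) =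
      ((L g).map a).hom.app _ ((yonHom (g := g) T).hom.app (op ((Over.map g).obj W)) ⟨(Over.map g).map w⟩)
    rw [yonHom_app]
    have h2 := NatTrans.naturality_apply (Slice.unitP.{u + 1} (g := g) ((yon S).obj T).obj) w.op
      (⟨𝟙 T⟩ : ULift (T ⟶ T))
    refine Eq.trans ?_ (congrArg (fun s => ((L g).map a).hom.app (op ((Over.map g).obj W)) s) h2)
    refine (Slice.extMap_unitP.{u + 1} (g := g) a.hom _).symm.trans ?_
    congr 2
  have h3 := NatTrans.naturality_apply (yonHom (g := g) T ≫ (L g).map a).hom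
    (Over.homMk (𝟙 _) (by
      change 𝟙 _ ≫ T.left.fromSpecResidueField t ≫ T.hom ≫ g = (T.left.fromSpecResidueField t ≫ T.hom) ≫ g
      rw [Category.id_comp, Category.assoc]) : (Over.map g).obj W ⟶
        Over.mk (T.left.fromSpecResidueField t ≫ (T.hom ≫ g))).op
      (⟨Over.homMk (T.left.fromSpecResidueField t) rfl⟩ : ULift (_ ⟶ (Over.map g).obj T))
  have h0 : ∀ (Z : Over S') (x : ((L g).obj F).obj.obj (op Z)), ((L g).obj F).obj.map (𝟙 Z).op x = x :=
    fun Z x => by rw [op_id, Functor.map_id_apply]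
  refine (h0 _ _).trans (h1.trans ?_)
  refine Eq.trans ?_ h3
  congr 1

theorem map_lpt {F G : Sp S} (f : F ⟶ G) (x : Points F) :
    Points.map ((L g).map f) (lpt g F x) = lpt g G (Points.map f x) := by
  induction x using Points.ind with
  | h p =>
    change Points.mk ⟨_, _, _⟩ = Points.mk ⟨_, _, _⟩
    congr 2
    exact Slice.extMap_unitP.{u + 1} (g := g) f.hom p.val

theorem lpt_injective (F : Sp S) : Function.Injective (lpt g F) := by
  intro x y h
  induction x using Points.ind with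
  | h p =>
  induction y using Points.ind with
  | h q =>
  rw [lpt_mk, lpt_mk, Points.mk_eq_mk_iff] at h
  obtain ⟨Ω, _, w, a, b, h⟩ := h
  have hfs : a ≫ Slice.can g p.pt = b ≫ Slice.can g q.pt := congrArg (Slice.fs.{u + 1} (g := g)) h
  have hfs' : a.left ≫ p.str = b.left ≫ q.str := congrArg (fun t => t.left) hfs
  let W : Over S := Over.mk (a.left ≫ p.str)
  let a₀ : W ⟶ Slice.sl (Slice.can g p.pt) := Over.homMk a.left rfl
  let b₀ : W ⟶ Slice.sl (Slice.can g q.pt) := Over.homMk b.left hfs'.symm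
  have key := Slice.sn_congr_map.{u + 1} (g := g) (F := F.obj) a b h a₀ b₀ (𝟙 _) (Category.id_comp _).symm
    (Category.id_comp _).symm
  refine Points.sound ⟨Ω, inferInstance, a.left ≫ p.str, a₀ ≫ (Slice.slCan p.pt).hom,
    b₀ ≫ (Slice.slCan q.pt).hom, ?_⟩
  rw [op_comp, op_comp, Functor.map_comp_apply, Functor.map_comp_apply]
  exact key

theorem lpt_surjective (F : Sp S) : Function.Surjective (lpt g F) := by
  intro x
  obtain ⟨K, _, str, y, hy⟩ := K609.Points.exists_field_ofPt x
  obtain ⟨T, e, z, h⟩ := exists_lift (g := g) y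
  let t : ↥T.left := e.inv.left (IsLocalRing.closedPoint K)
  refine ⟨Points.ofPt z t, ?_⟩
  rw [lpt_ofPt, ← h, K609.Points.ofPt_yon_map_comp]
  exact hy _

/-- A set of points of `j_! F` is open iff its preimage in `|F|` is. -/
theorem isOpen_preimage_lpt (F : Sp S) (W : Set (Points ((L g).obj F))) :
    IsOpen (lpt g F ⁻¹' W) ↔ IsOpen W := by
  rw [Points.isOpen_iff, Points.isOpen_iff]
  constructor
  · intro h T' y
    obtain ⟨T, e, x, hx⟩ := exists_lift (g := g) y
    have h1 := h T x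
    have h2 : Points.ofPt x ⁻¹' (lpt g F ⁻¹' W) =
        (e.hom.left : ↥T.left → ↥T'.left) ⁻¹' (Points.ofPt y ⁻¹' W) := by
      ext t
      rw [Set.mem_preimage, Set.mem_preimage, Set.mem_preimage, Set.mem_preimage, lpt_ofPt, ← hx,
        K609.Points.ofPt_yon_map_comp]
    rw [h2] at h1
    have h3 : IsIso e.hom.left := inferInstanceAs (IsIso ((Over.forget S').map e.hom))
    have h4 := e.hom.left.isOpenEmbedding.isOpenMap _ h1
    rwa [Set.image_preimage_eq _ e.hom.left.surjective] at h4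
  · intro h T x
    have h1 := h _ (yonHom (g := g) T ≫ (L g).map x)
    have h2 : Points.ofPt x ⁻¹' (lpt g F ⁻¹' W) =
        Points.ofPt (T := (Over.map g).obj T) (yonHom (g := g) T ≫ (L g).map x) ⁻¹' W := by
      ext t
      rw [Set.mem_preimage, Set.mem_preimage, Set.mem_preimage, lpt_ofPt]
    rw [h2]
    exact h1

/-- `|F| ≃ₜ |j_! F|`. -/
noncomputable def lptHomeo (F : Sp S) : Points F ≃ₜ Points ((L g).obj F) :=
  (Equiv.ofBijective (lpt g F) ⟨lpt_injective g F, lpt_surjective g F⟩).toHomeomorph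
    (isOpen_preimage_lpt g F)

theorem lptHomeo_apply (F : Sp S) (x : Points F) : lptHomeo g F x = lpt g F x := rfl

end Points

end K902.Slice
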