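import Mathlib.AlgebraicGeometry.Morphisms.Smooth
import Mathlib.AlgebraicGeometry.Stalk

/-!
# Smoothness at a point through lifting of local square-zero extensions

`isSmoothAt_of_lift`: an `R`-algebra `B` of finite presentation is smooth at `q` if `R`-algebra maps `B → A₀` with `A₀`
local under which the maximal ideal pulls back to `q` lift along surjections `A → A₀` of local rings whose kernel is finitely
generated of square zero.  No Noetherian hypothesis.
`mem_smoothLocus_of_lift`: the same for morphisms of schemes locally of finite presentation.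
-/

set_option autoImplicit false

universe u

open CategoryTheory CategoryTheory.Limits AlgebraicGeometry IsLocalRing

namespace K902.SmCrit

section ring

variable {R B : Type u} [CommRing R] [CommRing B] [Algebra R B]

/-- The local ring of `B` at `q` is formally smooth over `R` if its universal square-zero extension splits. -/
theorem isSmoothAt_of_lift [Algebra.FinitePresentation R B] (q : Ideal B) [q.IsPrime]
    (H : ∀ (A A₀ : Type u) [CommRing A] [CommRing A₀] [IsLocalRing A] [IsLocalRing A₀] [Algebra R A] [Algebra R A₀]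
      (π : A →ₐ[R] A₀), Function.Surjective π → (RingHom.ker π.toRingHom) ^ 2 = ⊥ → (RingHom.ker π.toRingHom).FG →
      ∀ f : B →ₐ[R] A₀, (maximalIdeal A₀).comap f.toRingHom = q → ∃ g : B →ₐ[R] A, π.comp g = f) :
    Algebra.IsSmoothAt R q := by
  obtain ⟨n, π, hπ, hJ⟩ := (inferInstance : Algebra.FinitePresentation R B).out
  let p : Ideal (MvPolynomial (Fin n) R) := q.comap π.toRingHom
  have hp : p.IsPrime := Ideal.comap_isPrime _ _
  let P := Localization.AtPrime p
  let Bq := Localization.AtPrime q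
  have hM : Submonoid.map π.toRingHom p.primeCompl = q.primeCompl := by
    ext b
    constructor
    · rintro ⟨a, ha, rfl⟩
      exact ha
    · intro hb
      obtain ⟨a, rfl⟩ := hπ b
      exact ⟨a, hb, rfl⟩
  let φ : P →+* Bq := Localization.localRingHom p q π.toRingHom rfl
  have hφ1 : ∀ x, φ (algebraMap _ P x) = algebraMap B Bq (π x) := fun x =>
    Localization.localRingHom_to_map _ _ _ _ x
  let f : P →ₐ[R] Bq :=
    { φ with
      commutes' := fun r => by
        change φ (algebraMap R P r) = _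
        rw [IsScalarTower.algebraMap_apply R (MvPolynomial (Fin n) R) P, hφ1, AlgHom.commutes,
          ← IsScalarTower.algebraMap_apply] }
  have hfsurj : Function.Surjective f := by
    intro y
    obtain ⟨b, s, rfl⟩ := IsLocalization.exists_mk'_eq q.primeCompl y
    obtain ⟨a, rfl⟩ := hπ b
    obtain ⟨t, ht, hts⟩ : (s : B) ∈ Submonoid.map π.toRingHom p.primeCompl := by rw [hM]; exact s.2
    refine ⟨IsLocalization.mk' P a ⟨t, ht⟩, ?_⟩
    change φ _ = _
    rw [Localization.localRingHom_mk']
    congr 1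
    exact Subtype.ext hts
  have hker : RingHom.ker f.toRingHom = (RingHom.ker π.toRingHom).map (algebraMap _ P) := by
    have h1 := IsLocalization.ker_map (S := P) (Q := Bq) (g := π.toRingHom) (M := p.primeCompl) (T := q.primeCompl) hM
    rw [← h1]
    congr 1
  have hFG : (RingHom.ker f.toRingHom).FG := by
    rw [hker]
    exact Ideal.FG.map hJ _
  have : Algebra.FormallySmooth R P := Algebra.FormallySmooth.comp R (MvPolynomial (Fin n) R) P
  let A := P ⧸ RingHom.ker f.toRingHom ^ 2
  have hle : RingHom.ker f.toRingHom ^ 2 ≤ maximalIdeal P :=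
    (Ideal.pow_le_self two_ne_zero).trans (IsLocalRing.le_maximalIdeal (RingHom.ker_ne_top _))
  have hnt : Nontrivial A := Ideal.Quotient.nontrivial_iff.2 fun h => by
    rw [h, top_le_iff] at hle
    exact (IsLocalRing.maximalIdeal.isMaximal P).ne_top hle
  have hA : IsLocalRing A := IsLocalRing.of_surjective' (Ideal.Quotient.mk _) Ideal.Quotient.mk_surjective
  let π' : A →ₐ[R] Bq := f.kerSquareLift
  have hπ'1 : ∀ x : P, π' (Ideal.Quotient.mk _ x) = f x := fun x => rfl
  have hπ' : Function.Surjective π' := fun y => by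
    obtain ⟨x, rfl⟩ := hfsurj y
    exact ⟨Ideal.Quotient.mk _ x, rfl⟩
  have hπ'2 : RingHom.ker π'.toRingHom = (RingHom.ker f.toRingHom).cotangentIdeal :=
    AlgHom.ker_kerSquareLift f
  obtain ⟨g, hg⟩ := H A Bq π' hπ'
    (by rw [hπ'2, Ideal.cotangentIdeal_square])
    (by
      rw [hπ'2, ← Ideal.map_comap_of_surjective (Ideal.Quotient.mk (RingHom.ker f.toRingHom ^ 2))
        Ideal.Quotient.mk_surjective (RingHom.ker f.toRingHom).cotangentIdeal, Ideal.comap_cotangentIdeal]
      exact Ideal.FG.map hFG (Ideal.Quotient.mk (RingHom.ker f.toRingHom ^ 2)))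
    (IsScalarTower.toAlgHom R B Bq) (Localization.AtPrime.under_maximalIdeal (I := q))
  have h5 := @IsLocalHom.of_surjective A Bq inferInstance inferInstance inferInstance hA π'.toRingHom hπ'
  have hg1 : ∀ b : B, π' (g b) = algebraMap B Bq b := fun b => DFunLike.congr_fun hg b
  have hgl : ∀ y : q.primeCompl, IsUnit (g y) := by
    intro y
    have h2 : IsUnit (algebraMap B Bq (y : B)) := IsLocalization.map_units Bq y
    rw [← hg1] at h2
    exact isUnit_of_map_unit π'.toRingHom _ h2
  let g₁ : Bq →+* A := IsLocalization.lift (M := q.primeCompl) (S := Bq) (g := g.toRingHom) hgl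
  have hg₁ : ∀ b : B, g₁ (algebraMap B Bq b) = g b := fun b =>
    IsLocalization.lift_eq (M := q.primeCompl) (S := Bq) (g := g.toRingHom) hgl b
  let g' : Bq →ₐ[R] A :=
    { g₁ with
      commutes' := fun r => by
        change g₁ (algebraMap R Bq r) = _
        rw [IsScalarTower.algebraMap_apply R B Bq, hg₁, AlgHom.commutes] }
  refine Algebra.FormallySmooth.of_split f g' ?_
  have h6 : (π'.toRingHom.comp g'.toRingHom).comp (algebraMap B Bq) = (RingHom.id Bq).comp (algebraMap B Bq) := by
    ext b
    exact (congrArg π' (hg₁ b)).trans (hg1 b)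
  have h7 := IsLocalization.ringHom_ext q.primeCompl h6
  apply AlgHom.ext
  intro y
  exact DFunLike.congr_fun h7 y

end ring

section scheme

variable {X Y : Scheme.{u}}

/-- A morphism from the spectrum of a local ring whose closed point goes to the affine open `V` factors through `V`. -/
theorem exists_fac_of_local {A : CommRingCat.{u}} [IsLocalRing A] (g : Spec A ⟶ X) {V : X.Opens} (hV : IsAffineOpen V)
    (h : g (closedPoint A) ∈ V) : ∃ φ : Γ(X, V) ⟶ A, Spec.map φ ≫ hV.fromSpec = g := by
  have hr : Set.range g ⊆ Set.range hV.fromSpec := by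
    rw [hV.range_fromSpec]
    rintro _ ⟨y, rfl⟩
    have h1 : y ⤳ closedPoint A := IsLocalRing.specializes_closedPoint y
    exact (h1.map g.continuous).mem_open V.isOpen h
  refine ⟨Spec.preimage (IsOpenImmersion.lift hV.fromSpec g hr), ?_⟩
  rw [Spec.map_preimage, IsOpenImmersion.lift_fac]

theorem mem_smoothLocus_of_lift (f : X ⟶ Y) [LocallyOfFinitePresentation f] (x : X)
    (H : ∀ (A A₀ : CommRingCat.{u}) [IsLocalRing A] [IsLocalRing A₀] (π : A ⟶ A₀), Function.Surjective π.hom →
      (RingHom.ker π.hom) ^ 2 = ⊥ → (RingHom.ker π.hom).FG → ∀ (g₀ : Spec A₀ ⟶ X) (h : Spec A ⟶ Y),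
      Spec.map π ≫ h = g₀ ≫ f → g₀ (closedPoint A₀) = x → ∃ g : Spec A ⟶ X, Spec.map π ≫ g = g₀ ∧ g ≫ f = h) :
    x ∈ f.smoothLocus := by
  obtain ⟨_, ⟨U, hU, rfl⟩, hxU, -⟩ :=
    Y.isBasis_affineOpens.exists_subset_of_mem_open (Set.mem_univ (f x)) isOpen_univ
  obtain ⟨_, ⟨V, hV, rfl⟩, hxV, hVU⟩ :=
    X.isBasis_affineOpens.exists_subset_of_mem_open hxU (U.2.preimage f.continuous)
  have h0 := f.finitePresentation_appLE hU hV hVU
  algebraize [(f.appLE U V hVU).hom]
  rw [Scheme.Hom.mem_smoothLocus, formallySmooth_stalkMap_iff U hU V hV hVU hxV]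
  refine isSmoothAt_of_lift (hV.primeIdealOf ⟨x, hxV⟩).asIdeal ?_
  intro A A₀ _ _ _ _ _ _ π hπ hk hk' φ hφ
  let g₀ : Spec (CommRingCat.of A₀) ⟶ X := Spec.map (CommRingCat.ofHom φ.toRingHom) ≫ hV.fromSpec
  let h : Spec (CommRingCat.of A) ⟶ Y := Spec.map (CommRingCat.ofHom (algebraMap Γ(Y, U) A)) ≫ hU.fromSpec
  have e1 : hV.fromSpec ≫ f = Spec.map (f.appLE U V hVU) ≫ hU.fromSpec :=
    (IsAffineOpen.SpecMap_appLE_fromSpec f hU hV hVU).symm
  have hcp : (Spec.map (CommRingCat.ofHom φ.toRingHom)) (closedPoint A₀) = hV.primeIdealOf ⟨x, hxV⟩ := by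
    apply PrimeSpectrum.ext
    exact hφ
  have hg₀ : g₀ (closedPoint A₀) = x := by
    change (Spec.map (CommRingCat.ofHom φ.toRingHom) ≫ hV.fromSpec) (closedPoint A₀) = x
    rw [Scheme.Hom.comp_apply, hcp, hV.fromSpec_primeIdealOf]
  have hloc : IsLocalHom π.toRingHom := IsLocalHom.of_surjective π.toRingHom hπ
  have e2 : Spec.map (CommRingCat.ofHom π.toRingHom) ≫ h = g₀ ≫ f := by
    change _ ≫ Spec.map _ ≫ hU.fromSpec = (Spec.map _ ≫ hV.fromSpec) ≫ f
    rw [Category.assoc, e1, ← Spec.map_comp_assoc, ← Spec.map_comp_assoc]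
    congr 2
    ext r
    change π (algebraMap _ A r) = φ (algebraMap _ _ r)
    rw [AlgHom.commutes, AlgHom.commutes]
  obtain ⟨g, hg1, hg2⟩ := H (CommRingCat.of A) (CommRingCat.of A₀) (CommRingCat.ofHom π.toRingHom) hπ hk hk' g₀ h
    e2 hg₀
  have h3 : g (closedPoint A) ∈ V := by
    have h4 : (Spec.map (CommRingCat.ofHom π.toRingHom)) (closedPoint A₀) = closedPoint A :=
      IsLocalRing.comap_closedPoint π.toRingHom
    have h5 : g (closedPoint A) = x := by
      rw [← hg₀, ← hg1, Scheme.Hom.comp_apply]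
      exact congrArg g h4.symm
    rw [h5]
    exact hxV
  obtain ⟨ψ, hψ⟩ := exists_fac_of_local (A := CommRingCat.of A) g hV h3
  have e3 : f.appLE U V hVU ≫ ψ = CommRingCat.ofHom (algebraMap Γ(Y, U) A) := by
    apply Spec.map_injective
    rw [← cancel_mono hU.fromSpec, Spec.map_comp, Category.assoc, ← e1, ← Category.assoc, hψ, hg2]
  have e4 : ψ ≫ CommRingCat.ofHom π.toRingHom = CommRingCat.ofHom φ.toRingHom := by
    apply Spec.map_injective
    rw [← cancel_mono hV.fromSpec, Spec.map_comp, Category.assoc, hψ, hg1]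
  refine ⟨{ ψ.hom with
    commutes' := fun r => ConcreteCategory.congr_hom e3 r }, ?_⟩
  apply AlgHom.ext
  intro b
  exact ConcreteCategory.congr_hom e4 b

end scheme

end K902.SmCrit
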