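import Groth.Agent.CurvSt.K902.ChartLift
import Groth.Agent.CurvSt.K902.SmCrit
import Groth.Agent.CurvSt.K902.CurveLift

/-!
# A criterion for smoothness of a chart of a stack
-/

set_option autoImplicit false
set_option backward.isDefEq.respectTransparency false
set_option backward.isDefEq.respectTransparency.types false

universe v₂ u₂ u

open CategoryTheory CategoryTheory.Limits AlgebraicGeometry Opposite K862.Fib K862.Yon IsLocalRing

namespace K902.StSmooth

variable {S : Scheme.{u}}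

/-- The closed immersion `Spec (A/I) ⟶ Spec A` over `S`. -/
noncomputable abbrev cl {A : Type u} [CommRing A] (I : Ideal A) (str : Spec (CommRingCat.of A) ⟶ S) :
    Over.mk (Spec.map (CommRingCat.ofHom (Ideal.Quotient.mk I)) ≫ str) ⟶ Over.mk str :=
  Over.homMk (Spec.map (CommRingCat.ofHom (Ideal.Quotient.mk I))) rfl

/-- The version of the smoothness criterion with quotients `A ⧸ I`. -/
theorem mem_smoothLocus_of_lift {X Y : Scheme.{u}} (f : X ⟶ Y) [LocallyOfFinitePresentation f] (x : X)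
    (H : ∀ (A : Type u) [CommRing A] [IsLocalRing A] (I : Ideal A) [IsLocalRing (A ⧸ I)], I ^ 2 = ⊥ → I.FG →
      ∀ (g₀ : Spec (CommRingCat.of (A ⧸ I)) ⟶ X) (h : Spec (CommRingCat.of A) ⟶ Y),
      Spec.map (CommRingCat.ofHom (Ideal.Quotient.mk I)) ≫ h = g₀ ≫ f → g₀ (closedPoint (A ⧸ I)) = x →
      ∃ g : Spec (CommRingCat.of A) ⟶ X, Spec.map (CommRingCat.ofHom (Ideal.Quotient.mk I)) ≫ g = g₀ ∧ g ≫ f = h) :
    x ∈ f.smoothLocus := by
  refine K902.SmCrit.mem_smoothLocus_of_lift f x ?_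
  intro A A₀ _ _ π hπ hk hk' g₀ h w hx
  let I : Ideal A := RingHom.ker π.hom
  let ε : (A ⧸ I) ≃+* A₀ := RingHom.quotientKerEquivOfSurjective hπ
  have : IsLocalRing (A ⧸ I) := ε.symm.isLocalRing
  let e : CommRingCat.of (A ⧸ I) ≅ A₀ := ε.toCommRingCatIso
  have he : CommRingCat.ofHom (Ideal.Quotient.mk I) ≫ e.hom = π := by
    ext a
    rfl
  obtain ⟨g, hg1, hg2⟩ := H A I hk hk' (Spec.map e.inv ≫ g₀) h (by
    rw [Category.assoc, ← w, ← Category.assoc, ← Spec.map_comp, ← he, Category.assoc, Iso.hom_inv_id,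
      Category.comp_id]) (by
    rw [Scheme.Hom.comp_apply]
    have h1 : Spec.map e.inv (closedPoint (A ⧸ I)) = closedPoint A₀ := by
      have : IsLocalHom e.inv.hom := isLocalHom_of_isIso e.inv
      exact comap_closedPoint e.inv.hom
    rw [h1, hx])
  refine ⟨g, ?_, hg2⟩
  rw [← he, Spec.map_comp, Category.assoc, hg1, ← Category.assoc, ← Spec.map_comp, Iso.inv_hom_id, Spec.map_id,
    Category.id_comp]

/-- **Smoothness criterion for charts.** -/
theorem mem_smoothLocus_of_obj {𝒳 : BasedCategory.{v₂, u₂} (Over S)} [FibCat.IsFibGrpd 𝒳.p] {W : Over S}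
    (x : FibCat.overCat W ⥤ᵇ 𝒳) (hx : AlgSt.RepByAlgSpWith (AlgSp.LocP @Smooth) x) {V : Over S} (e : V ⟶ W)
    [Smooth e.left] [LocallyOfFinitePresentation V.hom] (v : V.left)
    (H : ∀ (A : Type u) [CommRing A] [IsLocalRing A] (I : Ideal A) [IsLocalRing (A ⧸ I)], I ^ 2 = ⊥ → I.FG →
      ∀ (str : Spec (CommRingCat.of A) ⟶ S)
      (g₀ : Over.mk (Spec.map (CommRingCat.ofHom (Ideal.Quotient.mk I)) ≫ str) ⟶ V),
      g₀.left (closedPoint (A ⧸ I)) = v →
      ∃ (A₀ : 𝒳.obj) (A' : 𝒳.p.Fiber (Over.mk str)) (φ : A₀ ⟶ (objOf x).1) (ψ : A₀ ⟶ A'.1),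
        𝒳.p.IsHomLift (g₀ ≫ e) φ ∧ 𝒳.p.IsHomLift (cl I str) ψ) :
    v ∈ V.hom.smoothLocus := by
  refine mem_smoothLocus_of_lift (f := V.hom) v ?_
  intro A _ _ I _ hI hI' g₀ h w hv
  obtain ⟨A₀, A', φ, ψ, hφ, hψ⟩ := H A I hI hI' h (Over.homMk g₀ w.symm) hv
  have hj := K902.CurveLift.isFirstOrderThickening_mk I hI
  have : IsAffine (Over.mk h).left := by
    change IsAffine (Spec (CommRingCat.of A))
    infer_instance
  obtain ⟨g, hg⟩ := K902.ChartLift.exists_lift_obj x hx (cl I h) hj (Over.homMk g₀ w.symm ≫ e) A₀ A' φ ψ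
  have hg' : Spec.map (CommRingCat.ofHom (Ideal.Quotient.mk I)) ≫ g.left = g₀ ≫ e.left :=
    congrArg CommaMorphism.left hg
  obtain ⟨l, hl1, hl2⟩ := K902.LiftGlue.exists_lift_smooth e.left _ hj g₀ g.left hg'
  refine ⟨l, hl1, ?_⟩
  rw [← Over.w e, ← Category.assoc, hl2]
  exact Over.w g

end K902.StSmooth
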